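import Cfsg.Agent.ExtFieldMax.Orth.Root
import Cfsg.Agent.MaxSub.Orth

/-!
Vectors of given norm in large subspaces and isotropic vectors inside an orthogonal (helper98).
-/

set_option autoImplicit false

namespace Cfsg.Agent.ExtFieldMax.Orth

open Matrix Cfsg.Agent.MaxSub
open scoped commutatorElement

variable {ι : Type} [Fintype ι] [DecidableEq ι] {F : Type*} [Field F] [Finite F]
variable {f : (ι → F) → (ι → F) → F} {K : Subalgebra F (Matrix ι ι F)} {r : ℕ}
variable {H : Subgroup (GL ι F)} (S : Setting f K r H) (G : Sp.KForm f K)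
include S

omit [Finite F] in
/-- A subspace of more than half the dimension has an anisotropic vector. -/
theorem exists_aniso_mem {X : Submodule F (ι → F)}
    (hX : Fintype.card ι < 2 * Module.finrank F X) : ∃ a ∈ X, G.phi a a ≠ 0 := by
  by_contra hc
  push Not at hc
  have hz : ∀ x ∈ X, ∀ y ∈ X, G.phi x y = 0 := fun x hx y hy => by
    by_contra hne
    obtain ⟨a, ha, ha0⟩ := exists_aniso S G hx hy hne
    exact ha0 (hc a ha)
  have hnd : Geo.IsNondegenerateForm f := fun v hv =>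
    ⟨by by_contra hc'; push Not at hc'; exact hv (S.nd v fun y => by rw [S.symm, hc']),
      by by_contra hc'; push Not at hc'; exact hv (S.nd v hc')⟩
  have h1 := finrank_orth S.bil hnd X
  have h2 : X ≤ MaxSub.orth S.bil X := fun x hx => mem_orth.mpr fun w hw => by
    rw [← theta_phi S G, hz w hw x hx, map_zero]
  have := Submodule.finrank_mono h2
  omega

omit [Finite F] in
/-- A subspace orthogonal to two independent functionals has an anisotropic vector. -/
theorem exists_aniso_perp_two_lines {X : Submodule F (ι → F)} {y z : ι → F}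
    (hy : ∀ x ∈ X, G.phi y x = 0) (hz : ∀ x ∈ X, G.phi z x = 0)
    (hreg : ∀ k l : K, G.phi y (ev K y k + ev K z l) = 0 →
      G.phi z (ev K y k + ev K z l) = 0 → k = 0 ∧ l = 0)
    (hX : Fintype.card ι < 2 * Module.finrank F X + 2 * r) : ∃ a ∈ X, G.phi a a ≠ 0 := by
  by_contra hc
  push Not at hc
  have hzz : ∀ x ∈ X, ∀ x' ∈ X, G.phi x x' = 0 := fun x hx x' hx' => by
    by_contra hne
    obtain ⟨a, ha, ha0⟩ := exists_aniso S G hx hx' hne
    exact ha0 (hc a ha)
  have hnd : Geo.IsNondegenerateForm f := fun v hv =>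
    ⟨by by_contra hc'; push Not at hc'; exact hv (S.nd v fun y => by rw [S.symm, hc']),
      by by_contra hc'; push Not at hc'; exact hv (S.nd v hc')⟩
  let L : (X × K × K) →ₗ[F] (ι → F) :=
    (X.subtype).coprod ((ev K y).coprod (ev K z))
  have hL : ∀ x : X, ∀ k l : K, L (x, k, l) = (x : ι → F) + (ev K y k + ev K z l) :=
    fun x k l => rfl
  have hinj : Function.Injective L := by
    rw [injective_iff_map_eq_zero]
    rintro ⟨x, k, l⟩ h
    rw [hL] at h
    obtain ⟨rfl, rfl⟩ : k = 0 ∧ l = 0 := by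
      refine hreg k l ?_ ?_
      · simpa [map_add, hy x x.2, -ev_apply] using congrArg (G.phi y) h
      · simpa [map_add, hz x x.2, -ev_apply] using congrArg (G.phi z) h
    simpa using h
  have hmap : ∀ u, (∀ x ∈ X, G.phi u x = 0) → ∀ k : K, ∀ x ∈ X, f x (ev K u k) = 0 :=
    fun u hu k x hx => by rw [spec_right S G, hu x hx, mul_zero, map_zero]
  have hle : LinearMap.range L ≤ MaxSub.orth S.bil X := by
    rintro _ ⟨⟨x, k, l⟩, rfl⟩
    refine mem_orth.mpr fun w hw => ?_
    rw [hL, S.symm, S.bil.add_right, S.bil.add_right, hmap y hy k w hw, hmap z hz l w hw,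
      ← theta_phi S G, hzz x x.2 w hw, map_zero]
    simp
  haveI : Module.Finite F K :=
    Module.finite_of_finrank_pos (by rw [S.hK.finrank_eq]; exact S.hr.pos)
  have h1 := finrank_orth S.bil hnd X
  have h2 := Submodule.finrank_mono hle
  have h3 := LinearMap.finrank_range_of_inj hinj
  rw [Module.finrank_prod, Module.finrank_prod, S.hK.finrank_eq] at h3
  omega

/-- A stable subspace with two orthogonal anisotropic vectors represents everything. -/
theorem exists_norm_mem {X : Submodule F (ι → F)}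
    (hst : ∀ (k : K), ∀ x ∈ X, (k : Matrix ι ι F) *ᵥ x ∈ X)
    {a b : ι → F} (haX : a ∈ X) (ha : G.phi a a ≠ 0) (hbX : b ∈ X) (hb : G.phi b b ≠ 0)
    (hab : G.phi a b = 0) (T : K) :
    ∃ w ∈ X, G.phi w w = T := by
  classical
  letI : Field K := (isField_of S.hK S.one_le).toField
  haveI : Module.Finite F K :=
    Module.finite_of_finrank_pos (by rw [S.hK.finrank_eq]; exact S.hr.pos)
  haveI : Finite K := Module.finite_of_finite F
  letI : Fintype K := Fintype.ofFinite K
  have hodd : Fintype.card K % 2 = 1 :=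
    FiniteField.odd_card_of_char_ne_two fun h2 => twoK S (by
      haveI : CharP K (ringChar K) := ringChar.charP K
      have := CharP.cast_eq_zero K (ringChar K)
      rw [h2] at this
      exact_mod_cast this)
  obtain ⟨s, t, hst'⟩ := FiniteField.exists_root_sum_quadratic
    (f := Polynomial.C (G.phi a a) * Polynomial.X ^ 2)
    (g := Polynomial.C (G.phi b b) * Polynomial.X ^ 2 - Polynomial.C T)
    (by rw [Polynomial.degree_C_mul_X_pow _ ha]; rfl)
    (by
      rw [Polynomial.degree_sub_eq_left_of_degree_lt] <;> rw [Polynomial.degree_C_mul_X_pow _ hb]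
      · rfl
      · exact lt_of_le_of_lt Polynomial.degree_C_le (by decide))
    hodd
  refine ⟨ev K a s + ev K b t, add_mem (hst s a haX) (hst t b hbX), ?_⟩
  rw [norm_add S G, phi_ev_left S G, phi_ev_left S G, phi_ev_left S G, phi_ev S.hK (G.klin a),
    phi_ev S.hK (G.klin a), phi_ev S.hK (G.klin b), hab]
  simp only [Polynomial.eval_sub, Polynomial.eval_mul, Polynomial.eval_C, Polynomial.eval_pow,
    Polynomial.eval_X] at hst'
  linear_combination hst'

omit [Finite F] in
theorem stable_ker (v : ι → F) (k : K) {x : ι → F} (hx : G.phi v x = 0) :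
    G.phi v ((k : Matrix ι ι F) *ᵥ x) = 0 := by
  rw [G.klin, hx, mul_zero]

variable (hn : 4 * r < Fintype.card ι)
include hn

omit [Finite F] in
theorem finrank_two_ge (v w : ι → F) :
    Fintype.card ι <
      2 * Module.finrank F ↥(LinearMap.ker (G.phi v) ⊓ LinearMap.ker (G.phi w)) := by
  have h1 := finrank_ker_ge S (G.phi v)
  have h2 := finrank_ker_inf_ge S (LinearMap.ker (G.phi v)) (G.phi w)
  omega

/-- An isotropic vector in the orthogonal of a line meeting a given one. -/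
theorem exists_iso_perp {v l : ι → F} (hv : G.phi v v = 0) (hv0 : v ≠ 0)
    (hl : l ∉ kline K v) :
    ∃ b, G.phi v b = 0 ∧ G.phi b b = 0 ∧ G.phi b l ≠ 0 := by
  letI : Field K := (isField_of S.hK S.one_le).toField
  obtain ⟨y, hy, hyl⟩ : ∃ y, G.phi v y = 0 ∧ G.phi y l ≠ 0 := by
    by_contra hc
    push Not at hc
    exact hl (mem_kline_of_perp S G hv hv0 fun u hu => by rw [phi_symm S G, hc u hu])
  by_cases hyy : G.phi y y = 0
  · exact ⟨y, hy, hyy, hyl⟩
  obtain ⟨a₀, ha₀X, ha₀⟩ := exists_aniso_mem S G (finrank_two_ge S G hn v y)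
  have hya₀ : G.phi y a₀ = 0 := ha₀X.2
  obtain ⟨b₀, ⟨hb₀X, hab'⟩, hb₀⟩ := exists_aniso_perp_two_lines S G
    (X := LinearMap.ker (G.phi v) ⊓ LinearMap.ker (G.phi y) ⊓ LinearMap.ker (G.phi a₀))
    (y := y) (z := a₀) (fun x hx => hx.1.2) (fun x hx => hx.2) (fun k l h1 h2' => by
      simp [phi_ev S.hK (G.klin y), phi_ev S.hK (G.klin a₀), phi_symm S G a₀ y, hya₀,
        -ev_apply] at h1 h2'
      exact ⟨h1.resolve_right hyy, h2'.resolve_right ha₀⟩) (by
      have h1 := finrank_ker_ge S (G.phi v)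
      have h2 := finrank_ker_inf_ge S (LinearMap.ker (G.phi v)) (G.phi y)
      have h3 := finrank_ker_inf_ge S (LinearMap.ker (G.phi v) ⊓ LinearMap.ker (G.phi y))
        (G.phi a₀)
      omega)
  obtain ⟨w, ⟨hwv, hwy⟩, hw⟩ := exists_norm_mem S G
    (X := LinearMap.ker (G.phi v) ⊓ LinearMap.ker (G.phi y))
    (fun k x hx => ⟨stable_ker S G v k hx.1, stable_ker S G y k hx.2⟩)
    ha₀X ha₀ hb₀X hb₀ hab' (-G.phi y y)
  have hwy' : G.phi y w = 0 := hwy
  have hwv' : G.phi v w = 0 := hwv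
  have key : ∀ e : K, e * e = 1 → G.phi v (y + ev K w e) = 0 ∧
      G.phi (y + ev K w e) (y + ev K w e) = 0 := fun e he => by
    refine ⟨by rw [map_add, hy, phi_ev S.hK (G.klin v), hwv', mul_zero, add_zero], ?_⟩
    rw [norm_add S G, phi_ev S.hK (G.klin y), hwy', phi_ev_left S G, phi_ev S.hK (G.klin w), hw]
    linear_combination (-G.phi y y) * he
  by_cases hp : G.phi (y + ev K w 1) l ≠ 0
  · exact ⟨_, (key 1 (one_mul 1)).1, (key 1 (one_mul 1)).2, hp⟩
  push Not at hp
  refine ⟨y + ev K w (-1), (key (-1) (by ring)).1, (key (-1) (by ring)).2, fun hm => ?_⟩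
  rw [phi_add S G, phi_ev_left S G] at hp hm
  exact mul_ne_zero (twoK S) hyl (by linear_combination hp + hm)

/-- A partner inside the orthogonal of a line, meeting a given vector. -/
theorem exists_iso_perp_pair {v l b : ι → F} (hv : G.phi v v = 0) (hv0 : v ≠ 0)
    (hvb : G.phi v b = 0) (hb : G.phi b b = 0) (hbl : G.phi b l ≠ 0) (hvl : G.phi v l = 0) :
    ∃ b2, G.phi v b2 = 0 ∧ G.phi b2 b2 = 0 ∧ G.phi b b2 ≠ 0 ∧ G.phi b2 l ≠ 0 := by
  letI : Field K := (isField_of S.hK S.one_le).toField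
  obtain ⟨y, hy, hyb⟩ : ∃ y, G.phi v y = 0 ∧ G.phi y b ≠ 0 := by
    by_contra hc
    push Not at hc
    obtain ⟨μ, rfl⟩ := mem_kline_of_perp S G hv hv0 (x := b)
      fun u hu => by rw [phi_symm S G, hc u hu]
    exact hbl (by rw [phi_ev_left S G, hvl, mul_zero])
  obtain ⟨b0, hb0⟩ : ∃ b0, b0 = ev K y (G.phi y b)⁻¹ -
      ev K b ((2 : K)⁻¹ * G.phi y y * (G.phi y b)⁻¹ * (G.phi y b)⁻¹) := ⟨_, rfl⟩
  have hb0v : G.phi v b0 = 0 := by
    rw [hb0, map_sub, phi_ev S.hK (G.klin v), phi_ev S.hK (G.klin v), hy, hvb, mul_zero, mul_zero,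
      sub_zero]
  have hb0b : G.phi b b0 = 1 := by
    rw [hb0, map_sub, phi_ev S.hK (G.klin b), phi_ev S.hK (G.klin b), hb, mul_zero, sub_zero,
      phi_symm S G b y, inv_mul_cancel₀ hyb]
  have hb00 : G.phi b0 b0 = 0 := by
    rw [hb0, phi_sub S G, map_sub, map_sub, phi_ev_left S G, phi_ev_left S G, phi_ev_left S G,
      phi_ev_left S G, phi_ev S.hK (G.klin y), phi_ev S.hK (G.klin y), phi_ev S.hK (G.klin b),
      phi_ev S.hK (G.klin b), hb, phi_symm S G b y]
    have := twoK S
    field_simp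
    ring
  by_cases h0 : G.phi b0 l ≠ 0
  · exact ⟨b0, hb0v, hb00, by rw [hb0b]; exact one_ne_zero, h0⟩
  push Not at h0
  obtain ⟨w, ⟨⟨hwv, hwb⟩, hwb0⟩, hw⟩ := exists_aniso_perp_two_lines S G
    (X := LinearMap.ker (G.phi v) ⊓ LinearMap.ker (G.phi b) ⊓ LinearMap.ker (G.phi b0))
    (y := b) (z := b0) (fun x hx => hx.1.2) (fun x hx => hx.2) (fun k l h1 h2' => by
      simp [phi_ev S.hK (G.klin b), phi_ev S.hK (G.klin b0), phi_symm S G b0 b, hb, hb0b, hb00,
        -ev_apply] at h1 h2'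
      exact ⟨h2', h1⟩) (by
      have h1 := finrank_ker_ge S (G.phi v)
      have h2 := finrank_ker_inf_ge S (LinearMap.ker (G.phi v)) (G.phi b)
      have h3 := finrank_ker_inf_ge S (LinearMap.ker (G.phi v) ⊓ LinearMap.ker (G.phi b)) (G.phi b0)
      omega)
  have hwv' : G.phi v w = 0 := hwv
  have hwb' : G.phi b w = 0 := hwb
  have hwb0' : G.phi b0 w = 0 := hwb0
  let c : K := (2 : K)⁻¹ * G.phi w w
  have key : ∀ e : K, e * e = 1 → G.phi v (b0 + ev K w e - ev K b c) = 0 ∧
      G.phi (b0 + ev K w e - ev K b c) (b0 + ev K w e - ev K b c) = 0 ∧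
      G.phi b (b0 + ev K w e - ev K b c) ≠ 0 ∧
      G.phi (b0 + ev K w e - ev K b c) l = e * G.phi w l - c * G.phi b l := fun e he => by
    refine ⟨by simp [phi_ev S.hK (G.klin v), hb0v, hwv', hvb, -ev_apply], ?_, ?_, ?_⟩
    · simp only [phi_sub S G, phi_add S G, map_sub, map_add, phi_ev_left S G,
        phi_ev S.hK (G.klin _), hb00, hb, hb0b, phi_symm S G b0 b, phi_symm S G w b,
        phi_symm S G w b0, hwb', hwb0', c]
      have := twoK S
      field_simp
      linear_combination (G.phi w w) * 4 * he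
    · simp [phi_ev S.hK (G.klin b), hb0b, hwb', hb, -ev_apply]
    · rw [phi_sub S G, phi_add S G, phi_ev_left S G, phi_ev_left S G, h0, zero_add]
  obtain ⟨k1, k2, k3, k4⟩ := key 1 (one_mul 1)
  by_cases hp : G.phi (b0 + ev K w 1 - ev K b c) l ≠ 0
  · exact ⟨_, k1, k2, k3, hp⟩
  push Not at hp
  obtain ⟨m1, m2, m3, m4⟩ := key (-1) (by ring)
  refine ⟨_, m1, m2, m3, fun hm => ?_⟩
  rw [k4] at hp
  rw [m4] at hm
  refine mul_ne_zero (mul_ne_zero (twoK S) (mul_ne_zero (inv_ne_zero (twoK S)) hw)) hbl ?_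
  linear_combination -hp - hm

end Cfsg.Agent.ExtFieldMax.Orth
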