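import Cfsg.Agent.ExtFieldMax.Sp.Intersect

/-!
A symmetric form with a self-adjoint field subalgebra in odd characteristic, and the isometries
linear over the field (helper98).
-/

set_option autoImplicit false

namespace Cfsg.Agent.ExtFieldMax.Orth

open Matrix Cfsg.Agent.MaxSub
open scoped commutatorElement

variable {ι : Type} [Fintype ι] [DecidableEq ι] {F : Type*} [Field F]
variable {f : (ι → F) → (ι → F) → F} {K : Subalgebra F (Matrix ι ι F)} {r : ℕ}

theorem exists_kForm (hb : Geo.IsBilinearForm f) (hK : Geo.IsFieldSubalgebra r K) (hr : r.Prime) :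
    Nonempty (Sp.KForm f K) := by
  haveI : Module.Finite F K := Module.finite_of_finrank_pos (by rw [hK.finrank_eq]; exact hr.pos)
  haveI : Nontrivial K := (isField_of hK hr.one_lt.le).nontrivial
  obtain ⟨θ, hθ⟩ : ∃ θ : K →ₗ[F] F, θ ≠ 0 := by
    let b := Module.finBasis F K
    refine ⟨b.coord ⟨0, Module.finrank_pos⟩, fun h => ?_⟩
    have := LinearMap.congr_fun h (b ⟨0, Module.finrank_pos⟩)
    simp at this
  let T : K →ₗ[F] (K →ₗ[F] F) :=
    { toFun := fun x => θ ∘ₗ LinearMap.mulRight F x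
      map_add' := fun x y => LinearMap.ext fun z => by simp [mul_add]
      map_smul' := fun c x => LinearMap.ext fun z => by simp }
  have hT : Function.Injective T := by
    rw [injective_iff_map_eq_zero]
    intro x hx
    by_contra hx0
    obtain ⟨b, hb, hxb⟩ := hK.inv x x.2 fun h => hx0 (Subtype.ext h)
    refine hθ (LinearMap.ext fun z => ?_)
    have h1 : θ ((z * ⟨b, hb⟩) * x) = 0 := LinearMap.congr_fun hx (z * ⟨b, hb⟩)
    rwa [mul_assoc, kmul_comm hK ⟨b, hb⟩ x, show x * (⟨b, hb⟩ : K) = 1 from Subtype.ext hxb,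
      mul_one] at h1
  let e := LinearEquiv.ofBijective T ⟨hT,
    (LinearMap.injective_iff_surjective_of_finrank_eq_finrank
      (by rw [Module.finrank_linearMap, Module.finrank_self, mul_one])).mp hT⟩
  let Φ : (ι → F) → ((ι → F) →ₗ[F] (K →ₗ[F] F)) := fun v =>
    { toFun := fun x => lmap hb v ∘ₗ ev K x
      map_add' := fun x y => LinearMap.ext fun k => by
        simp [mulVec_add, hb.add_left]
      map_smul' := fun c x => LinearMap.ext fun k => by
        simp [mulVec_smul, hb.smul_left] }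
  have he : ∀ v x (k : K), θ (k * e.symm (Φ v x)) = f ((k : Matrix ι ι F) *ᵥ x) v := fun v x k =>
    LinearMap.congr_fun (e.apply_symm_apply (Φ v x)) k
  refine ⟨⟨θ, fun v => e.symm.toLinearMap ∘ₗ Φ v, fun v k x => ?_, fun v k x => he v x k,
    fun a ha => hT (by rw [map_zero]; exact LinearMap.ext ha)⟩⟩
  show e.symm (Φ v _) = k * e.symm (Φ v x)
  apply e.injective
  rw [LinearEquiv.apply_symm_apply]
  refine LinearMap.ext fun l => ?_
  show f (ev K _ l) v = θ (l * (k * e.symm (Φ v x)))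
  rw [← mul_assoc, he, ev_apply, mulVec_mulVec]
  rfl

/-- An element commuting with the field. -/
def Comm (K : Subalgebra F (Matrix ι ι F)) (g : GL ι F) : Prop :=
  ∀ (k : K) (x : ι → F), (g : Matrix ι ι F) *ᵥ ((k : Matrix ι ι F) *ᵥ x) =
    (k : Matrix ι ι F) *ᵥ ((g : Matrix ι ι F) *ᵥ x)

theorem Comm.mul {g h : GL ι F} (hg : Comm K g) (hh : Comm K h) : Comm K (g * h) := fun k x => by
  rw [Units.val_mul, ← mulVec_mulVec, ← mulVec_mulVec, hh, hg]

theorem Comm.inv {g : GL ι F} (hg : Comm K g) : Comm K g⁻¹ := fun k x =>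
  mulVec_injective g (by
    show (g : Matrix ι ι F) *ᵥ _ = (g : Matrix ι ι F) *ᵥ _
    rw [mulVec_inv_mulVec, hg, mulVec_inv_mulVec])

/-- A group of isometries containing the commutators of the isometries linear over the field. -/
structure Setting (f : (ι → F) → (ι → F) → F) (K : Subalgebra F (Matrix ι ι F)) (r : ℕ)
    (H : Subgroup (GL ι F)) : Prop where
  hK : Geo.IsFieldSubalgebra r K
  hr : r.Prime
  bil : Geo.IsBilinearForm f
  symm : ∀ x y, f x y = f y x
  nd : ∀ x, (∀ y, f x y = 0) → x = 0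
  sa : Geo.IsSelfAdjointFor f K
  two : (2 : F) ≠ 0
  comm_mem : ∀ a b, a ∈ isom f → Comm K a → b ∈ isom f → Comm K b → ⁅a, b⁆ ∈ H
  le_isom : H ≤ isom f

variable {H : Subgroup (GL ι F)} (S : Setting f K r H) (G : Sp.KForm f K)
include S

theorem Setting.one_le : 1 ≤ r := S.hr.one_lt.le

theorem twoK : (2 : K) ≠ 0 := by
  letI : Field K := (isField_of S.hK S.one_le).toField
  rw [← map_ofNat (algebraMap F K) 2]
  exact (map_ne_zero _).mpr S.two

theorem phi_add (v w x : ι → F) : G.phi (v + w) x = G.phi v x + G.phi w x :=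
  Sp.phi_ext G fun k => by rw [mul_add, map_add, G.spec, G.spec, G.spec, S.bil.add_right]

theorem phi_ev_left (v : ι → F) (k : K) (x : ι → F) : G.phi (ev K v k) x = k * G.phi v x :=
  Sp.phi_ev_left S.hK S.sa G v k x

theorem phi_symm (v x : ι → F) : G.phi v x = G.phi x v :=
  Sp.phi_ext G fun k => by rw [G.spec, G.spec, S.sa k k.2, S.symm]

theorem spec_right (v : ι → F) (k : K) (x : ι → F) : f x (ev K v k) = G.theta (k * G.phi v x) := by
  rw [G.spec, ev_apply, S.sa k k.2]

theorem phi_sub (v w x : ι → F) : G.phi (v - w) x = G.phi v x - G.phi w x := by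
  have := phi_add S G (v - w) w x
  rw [sub_add_cancel] at this
  rw [this, add_sub_cancel_right]

theorem phi_eq_zero {v : ι → F} (h : ∀ x, G.phi v x = 0) : v = 0 :=
  S.nd v fun y => by rw [S.symm, ← Sp.phi_one G, h, map_zero]

theorem exists_phi_eq {ψ : (ι → F) →ₗ[F] K} (hψ : IsKLin ψ) : ∃ w, G.phi w = ψ := by
  obtain ⟨w, hw⟩ := exists_rep S.bil
    (fun v hv => ⟨by by_contra hc; push Not at hc; exact hv (S.nd v fun y => by rw [S.symm, hc]),
      by by_contra hc; push Not at hc; exact hv (S.nd v hc)⟩) (vec (G.theta ∘ₗ ψ))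
  refine ⟨w, LinearMap.ext fun x => Sp.phi_ext G fun k => ?_⟩
  rw [G.spec, ← hψ, ← rep_dot S.bil, hw, vec_dot]
  rfl

/-- An isometry preserves the form over the field if it commutes with the field. -/
theorem mem_isom_of_phi {g : GL ι F}
    (h : ∀ x y, G.phi ((g : Matrix ι ι F) *ᵥ y) ((g : Matrix ι ι F) *ᵥ x) = G.phi y x) :
    g ∈ isom f := fun x y => by
  show f ((g : Matrix ι ι F) *ᵥ x) ((g : Matrix ι ι F) *ᵥ y) = f x y
  rw [← Sp.phi_one G, h, Sp.phi_one]

theorem isom_form {g : GL ι F} (hg : g ∈ H) (x y : ι → F) :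
    f ((g : Matrix ι ι F) *ᵥ x) ((g : Matrix ι ι F) *ᵥ y) = f x y :=
  S.le_isom hg x y

/-- A map linear over the field is a general linear element if it is injective. -/
theorem exists_comm (T : (ι → F) →ₗ[F] (ι → F)) (hinj : ∀ x, T x = 0 → x = 0)
    (hlin : ∀ (k : K) x, T ((k : Matrix ι ι F) *ᵥ x) = (k : Matrix ι ι F) *ᵥ T x)
    (hphi : ∀ x y, G.phi (T y) (T x) = G.phi y x) :
    ∃ g, g ∈ isom f ∧ Comm K g ∧ ∀ x, (g : Matrix ι ι F) *ᵥ x = T x := by
  have hdet : (LinearMap.toMatrix' T).det ≠ 0 := by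
    intro h0
    obtain ⟨x, hx, hTx⟩ := Matrix.exists_mulVec_eq_zero_iff.mpr h0
    rw [LinearMap.toMatrix'_mulVec] at hTx
    exact hx (hinj x hTx)
  refine ⟨GeneralLinearGroup.mkOfDetNeZero _ hdet, ?_⟩
  have h1 : ∀ x, ((GeneralLinearGroup.mkOfDetNeZero _ hdet : GL ι F) : Matrix ι ι F) *ᵥ x = T x :=
    fun x => LinearMap.toMatrix'_mulVec T x
  exact ⟨mem_isom_of_phi S G fun x y => by rw [h1, h1, hphi],
    fun k x => by rw [h1, h1, hlin], h1⟩

/-- The reflection in a vector of non-zero norm. -/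
theorem exists_refl {a : ι → F} (ha : G.phi a a ≠ 0) :
    ∃ g, g ∈ isom f ∧ Comm K g ∧ ∃ c : K, c * G.phi a a = 2 ∧
      ∀ x, (g : Matrix ι ι F) *ᵥ x = x - ev K a (c * G.phi a x) := by
  letI : Field K := (isField_of S.hK S.one_le).toField
  set c : K := 2 * (G.phi a a)⁻¹ with hc
  have hc2 : c * G.phi a a = 2 := by rw [hc, mul_assoc, inv_mul_cancel₀ ha, mul_one]
  obtain ⟨g, h1, h2, h3⟩ := exists_comm S G
    (LinearMap.id - ev K a ∘ₗ LinearMap.mulLeft F c ∘ₗ G.phi a) (fun x hx => by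
      have h4 := congrArg (G.phi a) hx
      simp only [LinearMap.sub_apply, LinearMap.id_apply, LinearMap.comp_apply,
        LinearMap.mulLeft_apply, map_sub, phi_ev S.hK (G.klin a), map_zero] at h4
      have h5 : G.phi a x = 0 := by linear_combination -h4 - (G.phi a x) * hc2
      simpa [h5] using hx)
    (fun k x => by
      simp only [LinearMap.sub_apply, LinearMap.id_apply, LinearMap.comp_apply,
        LinearMap.mulLeft_apply]
      rw [G.klin, mul_left_comm, ev_mul, mulVec_sub])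
    (fun x y => by
      simp only [LinearMap.sub_apply, LinearMap.id_apply, LinearMap.comp_apply,
        LinearMap.mulLeft_apply, phi_sub S G, map_sub, phi_ev_left S G, phi_ev S.hK (G.klin _),
        phi_symm S G y a]
      linear_combination (c * G.phi a y * G.phi a x) * hc2)
  exact ⟨g, h1, h2, c, hc2, h3⟩

/-- The torus of a hyperbolic pair. -/
theorem exists_torus {v v' : ι → F} (hv : G.phi v v = 0) (hv' : G.phi v' v' = 0)
    (h : G.phi v v' = 1) {s : K} (hs : s ≠ 0) :
    ∃ g, g ∈ isom f ∧ Comm K g ∧ (g : Matrix ι ι F) *ᵥ v = ev K v s ∧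
      (∀ t : K, t * s = 1 → (g : Matrix ι ι F) *ᵥ v' = ev K v' t) ∧
      ∀ x, G.phi v x = 0 → G.phi v' x = 0 → (g : Matrix ι ι F) *ᵥ x = x := by
  letI : Field K := (isField_of S.hK S.one_le).toField
  have h' : G.phi v' v = 1 := by rw [phi_symm S G, h]
  let T : (ι → F) →ₗ[F] (ι → F) := LinearMap.id + ev K v ∘ₗ LinearMap.mulLeft F (s - 1) ∘ₗ
    G.phi v' + ev K v' ∘ₗ LinearMap.mulLeft F (s⁻¹ - 1) ∘ₗ G.phi v
  have hT : ∀ x, T x = x + ev K v ((s - 1) * G.phi v' x) + ev K v' ((s⁻¹ - 1) * G.phi v x) :=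
    fun x => rfl
  obtain ⟨g, h1, h2, h3⟩ := exists_comm S G T (fun x hx => by
      have e1 := congrArg (G.phi v) hx
      have e2 := congrArg (G.phi v') hx
      simp only [hT, map_add, phi_ev S.hK (G.klin _), hv, hv', h, h', map_zero, mul_zero, mul_one,
        add_zero] at e1 e2
      have e3 : G.phi v x = 0 := by
        have : s⁻¹ * G.phi v x = 0 := by linear_combination e1
        exact (mul_eq_zero.mp this).resolve_left (inv_ne_zero hs)
      have e4 : G.phi v' x = 0 := by
        have : s * G.phi v' x = 0 := by linear_combination e2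
        exact (mul_eq_zero.mp this).resolve_left hs
      rwa [hT, e3, e4, mul_zero, mul_zero, map_zero, map_zero, add_zero, add_zero] at hx)
    (fun k x => by
      rw [hT, hT, G.klin, G.klin, mul_left_comm (s - 1), mul_left_comm (s⁻¹ - 1), ev_mul v k,
        ev_mul v' k, mulVec_add, mulVec_add])
    (fun x y => by
      simp only [hT, map_add, phi_add S G, phi_ev_left S G, phi_ev S.hK (G.klin _), hv, hv', h, h',
        phi_symm S G y v, phi_symm S G y v']
      field_simp
      ring)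
  refine ⟨g, h1, h2, ?_, fun t ht => ?_, fun x hx hx' => ?_⟩
  · rw [h3, hT, h', hv, mul_one, mul_zero, map_zero, add_zero]
    nth_rewrite 1 [← ev_one (K := K) v]
    rw [← map_add, add_sub_cancel]
  · rw [eq_inv_of_mul_eq_one_left ht, h3, hT, hv', h, mul_one, mul_zero, map_zero, add_zero]
    nth_rewrite 1 [← ev_one (K := K) v']
    rw [← map_add, add_sub_cancel]
  · rw [h3, hT, hx, hx', mul_zero, mul_zero, map_zero, map_zero, add_zero, add_zero]

/-- An exchange of a hyperbolic pair. -/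
theorem exists_swap {v v' : ι → F} (hv : G.phi v v = 0) (hv' : G.phi v' v' = 0)
    (h : G.phi v v' = 1) :
    ∃ g, g ∈ isom f ∧ Comm K g ∧ (g : Matrix ι ι F) *ᵥ v = v' ∧ (g : Matrix ι ι F) *ᵥ v' = v := by
  letI : Field K := (isField_of S.hK S.one_le).toField
  have h' : G.phi v' v = 1 := by rw [phi_symm S G, h]
  have ha : G.phi (v - v') (v - v') ≠ 0 := by
    rw [phi_sub S G, map_sub, map_sub, hv, hv', h, h']
    intro h0
    exact twoK S (by linear_combination -h0)
  obtain ⟨g, h1, h2, c, hc, h3⟩ := exists_refl S G ha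
  rw [phi_sub S G, map_sub, map_sub, hv, hv', h, h'] at hc
  have hc1 : c = -1 := by
    have : (c + 1) * 2 = 0 := by linear_combination -hc
    exact eq_neg_of_add_eq_zero_left ((mul_eq_zero.mp this).resolve_right (twoK S))
  refine ⟨g, h1, h2, ?_, ?_⟩ <;>
    rw [h3, phi_sub S G, hc1] <;>
    simp only [hv, hv', h, h', sub_zero, zero_sub, neg_mul, one_mul, neg_neg, map_neg, map_one,
      ev_one, sub_neg_eq_add] <;> abel

/-- Squares act on isotropic lines inside the group. -/
theorem exists_scale {v v' : ι → F} (hv : G.phi v v = 0) (hv' : G.phi v' v' = 0)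
    (h : G.phi v v' = 1) {s : K} (hs : s ≠ 0) :
    ∃ g ∈ H, Comm K g ∧ (g : Matrix ι ι F) *ᵥ v = ev K v (s * s) := by
  letI : Field K := (isField_of S.hK S.one_le).toField
  obtain ⟨t, ht1, ht2, htv, htv', -⟩ := exists_torus S G hv hv' h hs
  obtain ⟨w, hw1, hw2, hwv, hwv'⟩ := exists_swap S G hv hv' h
  have hi : ∀ (a : GL ι F) (x y : ι → F), (a : Matrix ι ι F) *ᵥ x = y →
      ((a⁻¹ : GL ι F) : Matrix ι ι F) *ᵥ y = x := fun a x y e => by rw [← e, inv_mulVec_mulVec]
  refine ⟨⁅t, w⁆, S.comm_mem t w ht1 ht2 hw1 hw2,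
    (ht2.mul hw2).mul ht2.inv |>.mul hw2.inv, ?_⟩
  have e1 : ((t⁻¹ : GL ι F) : Matrix ι ι F) *ᵥ v' = ev K v' s := mulVec_injective t (by
    show (t : Matrix ι ι F) *ᵥ _ = (t : Matrix ι ι F) *ᵥ _
    rw [mulVec_inv_mulVec, ev_apply v' s, ht2, htv' s⁻¹ (inv_mul_cancel₀ hs), ← ev_mul,
      mul_inv_cancel₀ hs, ev_one])
  rw [commutatorElement_def, Units.val_mul, Units.val_mul, Units.val_mul, ← mulVec_mulVec,
    ← mulVec_mulVec, ← mulVec_mulVec, hi w v' v hwv', e1, ev_apply v' s, hw2, hwv', ht2, htv,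
    ← ev_mul]

/-- The unipotent element of an isotropic vector and an orthogonal one, as a map. -/
def siegel (G : Sp.KForm f K) (v w : ι → F) (x : ι → F) : ι → F :=
  x + ev K w (G.phi v x) - ev K v (G.phi w x) -
    (2 : F)⁻¹ • ev K v (G.phi w w * G.phi v x)

theorem half_two (k : K) : (2 : F)⁻¹ • k + (2 : F)⁻¹ • k = k := by
  rw [← add_smul]
  rw [show (2 : F)⁻¹ + (2 : F)⁻¹ = 1 by field_simp [S.two]; norm_num, one_smul]

theorem inH_siegel {v w : ι → F} (hv : G.phi v v = 0) (hvw : G.phi v w = 0) :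
    ∃ g ∈ H, Comm K g ∧ ∀ x, (g : Matrix ι ι F) *ᵥ x = siegel G v w x := by
  letI : Field K := (isField_of S.hK S.one_le).toField
  rcases eq_or_ne v 0 with rfl | hv0
  · refine ⟨1, one_mem H, fun k x => by simp, fun x => ?_⟩
    have h0 : G.phi 0 x = 0 := by
      rw [phi_symm S G]; exact map_zero _
    simp [siegel, h0]
  -- a hyperbolic partner
  obtain ⟨y, hy⟩ : ∃ y, G.phi v y = 1 := by
    obtain ⟨x, hx⟩ : ∃ x, G.phi v x ≠ 0 := by
      by_contra hc
      push Not at hc
      exact hv0 (phi_eq_zero S G hc)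
    exact ⟨ev K x (G.phi v x)⁻¹, by rw [phi_ev S.hK (G.klin v), inv_mul_cancel₀ hx]⟩
  obtain ⟨v', hv'⟩ : ∃ v', v' = y - (2 : F)⁻¹ • ev K v (G.phi y y) := ⟨_, rfl⟩
  have h1 : G.phi v v' = 1 := by
    rw [hv', map_sub, map_smul, phi_ev S.hK (G.klin v), hy, hv, mul_zero, smul_zero, sub_zero]
  have h1y : G.phi y v' = (2 : F)⁻¹ • G.phi y y := by
    rw [hv', map_sub, map_smul, phi_ev S.hK (G.klin y), phi_symm S G y v, hy, mul_one,
      sub_eq_iff_eq_add, half_two S]
  have h2 : G.phi v' v' = 0 := by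
    have e := phi_sub S G y ((2 : F)⁻¹ • ev K v (G.phi y y)) v'
    rw [← hv', h1y, ← map_smul (ev K v), phi_ev_left S G, h1, mul_one, sub_self] at e
    exact e
  -- the root element as a linear isometry
  have key : ∀ u : ι → F, G.phi v u = 0 → ∃ g, g ∈ isom f ∧ Comm K g ∧
      ∀ x, (g : Matrix ι ι F) *ᵥ x = siegel G v u x := by
    intro u hvu
    let T : (ι → F) →ₗ[F] (ι → F) := LinearMap.id + ev K u ∘ₗ G.phi v - ev K v ∘ₗ G.phi u -
      (2 : F)⁻¹ • (ev K v ∘ₗ LinearMap.mulLeft F (G.phi u u) ∘ₗ G.phi v)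
    have hT : ∀ x, T x = siegel G v u x := fun x => rfl
    have huv : G.phi u v = 0 := by rw [phi_symm S G, hvu]
    obtain ⟨g, g1, g2, g3⟩ := exists_comm S G T (fun x hx => by
        rw [hT, siegel] at hx
        have e1 := congrArg (G.phi v) hx
        simp only [map_sub, map_add, map_smul, phi_ev S.hK (G.klin v), hv, hvu, mul_zero,
          smul_zero, map_zero, add_zero, sub_zero] at e1
        have e2 := congrArg (G.phi u) hx
        simp only [map_sub, map_add, map_smul, phi_ev S.hK (G.klin u), huv, e1, zero_mul, mul_zero,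
          smul_zero, map_zero, add_zero, sub_zero] at e2
        simpa [e1, e2] using hx)
      (fun k x => by
        rw [hT, hT, siegel, siegel, G.klin, G.klin, mul_left_comm _ k (G.phi v x), ev_mul, ev_mul,
          ev_mul, mulVec_sub, mulVec_sub, mulVec_add, mulVec_smul])
      (fun x y => by
        simp only [hT, siegel, ← map_smul (ev K v), phi_sub S G, phi_add S G, map_sub, map_add,
          phi_ev_left S G, phi_ev S.hK (G.klin _), hv, hvu, huv, phi_symm S G y v,
          phi_symm S G y u]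
        have := half_two S (G.phi u u * G.phi v x * G.phi v y)
        simp only [Algebra.smul_def] at this ⊢
        linear_combination -this)
    exact ⟨g, g1, g2, fun x => (g3 x).trans (hT x)⟩
  -- a commutator with the torus
  obtain ⟨t, ht1, ht2, htv, htv', htw⟩ := exists_torus S G hv h2 h1 (s := 2) (twoK S)
  obtain ⟨u, hu⟩ : ∃ u, u = w - ev K v (G.phi v' w) := ⟨_, rfl⟩
  have hv'u : G.phi v' u = 0 := by
    rw [hu, map_sub, phi_ev S.hK (G.klin v'), phi_symm S G v' v, h1, mul_one, sub_self]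
  have hvu : G.phi v u = 0 := by
    rw [hu, map_sub, phi_ev S.hK (G.klin v), hvw, hv, mul_zero, sub_zero]
  obtain ⟨e, he1, he2, he3⟩ := key u hvu
  refine ⟨⁅t, e⁆, S.comm_mem t e ht1 ht2 he1 he2, (ht2.mul he2).mul ht2.inv |>.mul he2.inv,
    fun x => ?_⟩
  have huu : G.phi u u = G.phi w w := by
    rw [hu, phi_sub S G, map_sub, map_sub, phi_ev_left S G, phi_ev_left S G,
      phi_ev S.hK (G.klin v), phi_ev S.hK (G.klin w), phi_symm S G w v, hvw, hv]
    ring
  have hsame : ∀ z, siegel G v w z = siegel G v u z := fun z => by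
    rw [siegel, siegel, huu, hu, phi_sub S G, phi_ev_left S G, map_sub, ev_apply _ (G.phi v z),
      ev_apply _ (G.phi v z), mulVec_sub, ← ev_mul, mul_comm (G.phi v z), ← ev_apply]
    abel
  -- evaluate the commutator
  obtain ⟨z, rfl⟩ : ∃ z, (e : Matrix ι ι F) *ᵥ z = x := ⟨_, mulVec_inv_mulVec e x⟩
  obtain ⟨z', rfl⟩ : ∃ z', (t : Matrix ι ι F) *ᵥ z' = z := ⟨_, mulVec_inv_mulVec t z⟩
  rw [hsame, commutatorElement_def, Units.val_mul, Units.val_mul, Units.val_mul, ← mulVec_mulVec,
    ← mulVec_mulVec, ← mulVec_mulVec, inv_mulVec_mulVec, inv_mulVec_mulVec]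
  have ht2' : ∀ (k : K) (x : ι → F), (t : Matrix ι ι F) *ᵥ ((k : Matrix ι ι F) *ᵥ x) =
      (k : Matrix ι ι F) *ᵥ ((t : Matrix ι ι F) *ᵥ x) := ht2
  have htu : (t : Matrix ι ι F) *ᵥ u = u := htw u hvu hv'u
  have hphit : ∀ a : ι → F, (t : Matrix ι ι F) *ᵥ a = a →
      G.phi a ((t : Matrix ι ι F) *ᵥ z') = G.phi a z' := fun a ha => by
    refine Sp.phi_ext G fun k => ?_
    rw [← spec_right S G, ← spec_right S G, ev_apply]
    have e := (mem_isom.mp ht1) z' ((k : Matrix ι ι F) *ᵥ a)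
    rwa [ht2 k a, ha] at e
  have hphiv : G.phi v z' = 2 * G.phi v ((t : Matrix ι ι F) *ᵥ z') := by
    rw [← phi_ev_left S G, ← htv]
    refine Sp.phi_ext G fun k => ?_
    rw [← spec_right S G, ← spec_right S G, ev_apply, ev_apply, ← ht2, mem_isom.mp ht1]
  rw [he3, he3, siegel, siegel]
  simp only [mulVec_sub, mulVec_add, mulVec_smul, ev_apply, ht2']
  rw [htv, htu, ev_apply v 2]
  simp only [← ev_apply, siegel, hphiv, hphit u htu, map_sub, map_add, map_smul,
    phi_ev S.hK (G.klin _), hv, hvu, phi_symm S G u v, mul_zero, smul_zero, zero_mul]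
  simp only [ev_apply, mulVec_mulVec, ← Subalgebra.coe_mul]
  simp only [← ev_apply, mul_comm (G.phi v ((t : Matrix ι ι F) *ᵥ z')) (G.phi u u), two_mul,
    mul_two, mul_add, add_mul, map_add, map_zero, add_zero, sub_zero, mul_zero]
  match_scalars <;> field_simp [S.two] <;> ring

end Cfsg.Agent.ExtFieldMax.Orth
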