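import Cfsg.Agent.ExtFieldMax.Orth.Aniso
import Cfsg.Agent.MaxSub.OrthVectorGL

/-!
A group moving the lines over the field contains every root element (helper98).
-/

set_option autoImplicit false

namespace Cfsg.Agent.ExtFieldMax.Orth

open Matrix Cfsg.Agent.MaxSub
open Cfsg.Agent.UnitaryOrthogonal (eich eich_apply eich_mul eich_inv conj_eich eichGroup
  polar_self_eq form_add map_form orth_ext)

variable {ι : Type} [Fintype ι] [DecidableEq ι] {F : Type*} [Field F] [Finite F]
variable {Qf : QuadraticForm F (ι → F)} {K : Subalgebra F (Matrix ι ι F)} {r : ℕ}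
variable {H : Subgroup (GL ι F)}

/-- The `z` with `eich u z` in the group. -/
def zset (M : Subgroup (UnitaryOrthogonal.orth Qf)) {u : ι → F} (hu : Qf u = 0) :
    AddSubgroup (ι → F) where
  carrier := {z | QuadraticMap.polar Qf u z = 0 ∧ eich Qf u z ∈ M}
  zero_mem' := ⟨by simp, by rw [UnitaryOrthogonal.eich_zero]; exact one_mem M⟩
  add_mem' := fun {a b} ha hb => ⟨by rw [QuadraticMap.polar_add_right, ha.1, hb.1, add_zero],
    by rw [← eich_mul hu ha.1 hb.1]; exact mul_mem ha.2 hb.2⟩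
  neg_mem' := fun {a} ha => ⟨by rw [QuadraticMap.polar_neg_right, ha.1, neg_zero],
    by rw [← eich_inv hu ha.1]; exact inv_mem ha.2⟩

variable (S : Setting (QuadraticMap.polar ⇑Qf) K r H)
variable (G : Sp.KForm (QuadraticMap.polar ⇑Qf) K)
include S

omit [Finite F] in
theorem form_eq_zero {x : ι → F} (hx : G.phi x x = 0) : Qf x = 0 := by
  have h1 := polar_self_eq (Q := Qf) x
  rw [← theta_phi S G, hx, map_zero] at h1
  exact (mul_eq_zero.mp h1.symm).resolve_left S.two

omit [Finite F] in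
theorem polar_line {v : ι → F} (a b : K) (hv : G.phi v v = 0) :
    QuadraticMap.polar Qf (ev K v a) (ev K v b) = 0 := by
  rw [← theta_phi S G, phi_ev_left S G, phi_ev S.hK (G.klin v), hv, mul_zero, mul_zero, map_zero]

omit [Finite F] in
theorem line_iso {v : ι → F} (a : K) (hv : G.phi v v = 0) :
    G.phi (ev K v a) (ev K v a) = 0 := by
  rw [phi_ev_left S G, phi_ev S.hK (G.klin v), hv, mul_zero, mul_zero]

omit [Finite F] in
theorem form_line {v : ι → F} (a : K) (hv : G.phi v v = 0) : Qf (ev K v a) = 0 :=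
  form_eq_zero S G (line_iso S G a hv)

variable {M : Subgroup (UnitaryOrthogonal.orth Qf)}
variable (hM : ∀ g ∈ H, ∃ g' ∈ M, ∀ x, g'.1 x = (g : Matrix ι ι F) *ᵥ x)
variable (hR : ∀ v, G.phi v v = 0 → ∀ p q : K, ∃ g ∈ H, ∀ x,
      (g : Matrix ι ι F) *ᵥ x = x + ev K v (skewMap G.theta p q (G.phi v x)))
include hM hR

/-- The root elements on isotropic lines. -/
theorem eich_line_mem {v : ι → F} (hv : G.phi v v = 0) (a b : K) :
    eich Qf (ev K v a) (ev K v b) ∈ M := by
  obtain ⟨g, hg, hgx⟩ := hR v hv a b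
  obtain ⟨g', hg', hgg⟩ := hM g hg
  have : g' = eich Qf (ev K v a) (ev K v b) := by
    refine orth_ext fun x => ?_
    have e : ∀ c : K, QuadraticMap.polar Qf (ev K v c) x = G.theta (c * G.phi v x) := fun c => by
      rw [S.symm]; exact spec_right S G v c x
    rw [hgg, hgx, eich_apply (form_line S G a hv) (polar_line S G a b hv), e, e, form_line S G b hv,
      skewMap_apply, map_sub, map_smul, map_smul, zero_mul, zero_smul, sub_zero, add_sub_assoc]
  exact this ▸ hg'

/-- Vectors of one isotropic line orthogonal to a point of another. -/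
theorem mem_zset_of_three {v v' : ι → F} (hv : G.phi v v = 0) (hv' : G.phi v' v' = 0)
    (hvv' : G.phi v v' ≠ 0) (hr : 3 ≤ r) {cu : K} (hcu : cu ≠ 0) {t : ι → F}
    (ht : t ∈ kline K v') (htu : QuadraticMap.polar Qf t (ev K v cu) = 0) :
    t ∈ zset M (form_line S G cu hv) := by
  letI : Field K := (isField_of S.hK S.one_le).toField
  haveI : Module.Finite F K :=
    Module.finite_of_finrank_pos (by rw [S.hK.finrank_eq]; exact S.hr.pos)
  obtain ⟨ct, rfl⟩ := ht
  -- a point of the first line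
  let χ : K →ₗ[F] F := MaxSub.rmap S.bil (ev K v' ct) ∘ₗ ev K v
  obtain ⟨cz, hcz, hzu⟩ : ∃ cz : K, χ cz = 0 ∧ ∀ s : F, cz ≠ s • cu := by
    by_contra hc
    push Not at hc
    have h1 : LinearMap.ker χ ≤ Submodule.span F {cu} := fun k hk => by
      obtain ⟨s, hs⟩ := hc k hk
      exact hs ▸ Submodule.smul_mem _ s (Submodule.mem_span_singleton_self cu)
    have h2 := Submodule.finrank_mono h1
    rw [finrank_span_singleton hcu] at h2
    have h3 := LinearMap.finrank_range_add_finrank_ker χ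
    have h4 := (LinearMap.range χ).finrank_le
    rw [Module.finrank_self] at h4
    rw [S.hK.finrank_eq] at h3
    omega
  have htz : QuadraticMap.polar (⇑Qf) (ev K v' ct) (ev K v cz) = 0 := hcz
  -- a point of the second line
  obtain ⟨cb, hbu, hbz⟩ : ∃ cb : K, QuadraticMap.polar (⇑Qf) (ev K v' cb) (ev K v cu) = 0 ∧
      QuadraticMap.polar (⇑Qf) (ev K v' cb) (ev K v cz) = 1 := by
    let χu : K →ₗ[F] F := MaxSub.lmap S.bil (ev K v cu) ∘ₗ ev K v'
    let χz : K →ₗ[F] F := MaxSub.lmap S.bil (ev K v cz) ∘ₗ ev K v'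
    obtain ⟨cb, hb1, hb2⟩ : ∃ cb : K, χu cb = 0 ∧ χz cb ≠ 0 := by
      by_contra hc
      push Not at hc
      -- then `cz` is a multiple of `cu`
      have hval : ∀ (c d : K), QuadraticMap.polar (⇑Qf) (ev K v' d) (ev K v c) = G.theta (d * (c * G.phi v v')) :=
        fun c d => by
          rw [← theta_phi S G, phi_ev_left S G, phi_ev S.hK (G.klin v), mul_left_comm]
      obtain ⟨d, hd⟩ : ∃ d : K, χu d ≠ 0 := by
        by_contra hd
        push Not at hd
        exact mul_ne_zero hcu hvv' (G.sep _ fun k => (hval cu k).symm.trans (hd k))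
      refine hzu (χz d / χu d) ?_
      have h1 : ∀ k : K, G.theta (k * (cz * G.phi v v')) =
          (χz d / χu d) * G.theta (k * (cu * G.phi v v')) := fun k => by
        have h2 := hc (k - (χu k / χu d) • d) (by
          rw [map_sub, map_smul, smul_eq_mul, div_mul_cancel₀ _ hd, sub_self])
        rw [map_sub, map_smul, smul_eq_mul, sub_eq_zero] at h2
        rw [← hval cz k, ← hval cu k]
        show χz k = _ * χu k
        rw [h2]; field_simp
      have h3 : cz * G.phi v v' = (χz d / χu d) • (cu * G.phi v v') :=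
        Sp.phi_ext G fun k => by rw [h1, mul_smul_comm, map_smul, smul_eq_mul]
      rw [← smul_mul_assoc] at h3
      exact mul_right_cancel₀ hvv' h3
    refine ⟨(χz cb)⁻¹ • cb, ?_, ?_⟩
    · show χu ((χz cb)⁻¹ • cb) = 0
      rw [map_smul, hb1, smul_zero]
    · show χz ((χz cb)⁻¹ • cb) = 1
      rw [map_smul, smul_eq_mul, inv_mul_cancel₀ hb2]
  -- conjugation
  have hQt := form_line S G ct hv'
  have htb := polar_line S G ct cb hv'
  have he := eich_line_mem S G hM hR hv' ct cb
  have hr' := eich_line_mem S G hM hR hv cu cz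
  have h1 := mul_mem (mul_mem he hr') (inv_mem he)
  have eu : (eich Qf (ev K v' ct) (ev K v' cb)).1 (ev K v cu) = ev K v cu := by
    rw [eich_apply hQt htb, show QuadraticMap.polar Qf (ev K v' ct) (ev K v cu) = 0 from htu,
      show QuadraticMap.polar Qf (ev K v' cb) (ev K v cu) = 0 from hbu]
    simp
  have ez : (eich Qf (ev K v' ct) (ev K v' cb)).1 (ev K v cz) = ev K v cz - ev K v' ct := by
    rw [eich_apply hQt htb, show QuadraticMap.polar Qf (ev K v' ct) (ev K v cz) = 0 from htz,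
      show QuadraticMap.polar Qf (ev K v' cb) (ev K v cz) = 1 from hbz]
    simp
  rw [conj_eich, eu, ez] at h1
  have hz : ev K v cz ∈ zset M (form_line S G cu hv) := ⟨polar_line S G cu cz hv, hr'⟩
  have hd : ev K v cz - ev K v' ct ∈ zset M (form_line S G cu hv) :=
    ⟨by rw [QuadraticMap.polar_sub_right, polar_line S G cu cz hv, zero_sub, neg_eq_zero,
      QuadraticMap.polar_comm]; exact htu, h1⟩
  have := sub_mem hz hd
  rwa [sub_sub_cancel] at this

/-- Fullness of isotropic vectors for degree at least three. -/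
theorem full_of_three (hr : 3 ≤ r) {v : ι → F} (hv : G.phi v v = 0) (hv0 : v ≠ 0) :
    OrthStab.Full M v := by
  letI : Field K := (isField_of S.hK S.one_le).toField
  haveI : Module.Finite F K :=
    Module.finite_of_finrank_pos (by rw [S.hK.finrank_eq]; exact S.hr.pos)
  obtain ⟨v', hv', hvv'⟩ := exists_partner S G hv hv0
  have hu := form_line S G 1 hv
  have hT : ∀ x, G.phi x x = 0 → G.phi v x ≠ 0 → ∀ k : K,
      QuadraticMap.polar Qf (ev K x k) (ev K v 1) = 0 → ev K x k ∈ zset M hu := fun x hx hvx k hk =>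
    mem_zset_of_three S G hM hR hv hx hvx hr one_ne_zero ⟨k, rfl⟩ hk
  have hL : ∀ k : K, ev K v k ∈ zset M hu := fun k =>
    ⟨polar_line S G 1 k hv, eich_line_mem S G hM hR hv 1 k⟩
  have hpol : ∀ (x : ι → F) (k : K),
      QuadraticMap.polar Qf (ev K x k) (ev K v 1) = G.theta (k * G.phi v x) := fun x k => by
    rw [← theta_phi S G, phi_ev_left S G, one_mul, phi_ev S.hK (G.klin v)]
  -- the orthogonal of the pair
  have hW : ∀ x, G.phi v x = 0 → G.phi v' x = 0 → x ∈ zset M hu := by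
    intro x hx hx'
    obtain ⟨k, hk, hk0⟩ : ∃ k : K, G.theta (k * 1) = 0 ∧ k ≠ 0 := by
      obtain ⟨k, hk, hk0⟩ := Submodule.exists_mem_ne_zero_of_ne_bot
        (p := LinearMap.ker G.theta) (fun h0 => by
          have h3 := LinearMap.finrank_range_add_finrank_ker G.theta
          have h4 := (LinearMap.range G.theta).finrank_le
          rw [Module.finrank_self] at h4
          rw [h0, finrank_bot, S.hK.finrank_eq] at h3
          omega)
      exact ⟨k, by rw [mul_one]; exact hk, hk0⟩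
    set w := ev K x k⁻¹ with hw
    have hwv : G.phi v w = 0 := by rw [hw, phi_ev S.hK (G.klin v), hx, mul_zero]
    have hwv' : G.phi v' w = 0 := by rw [hw, phi_ev S.hK (G.klin v'), hx', mul_zero]
    set y := v' + w - ev K v ((2 : K)⁻¹ * G.phi w w) with hy
    have hvy : G.phi v y = 1 := by
      rw [hy, map_sub, map_add, hvv', hwv, phi_ev S.hK (G.klin v), hv, mul_zero, add_zero, sub_zero]
    have hyy : G.phi y y = 0 := by
      simp only [hy, phi_sub S G, phi_add S G, map_sub, map_add, phi_ev_left S G,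
        phi_ev S.hK (G.klin _), hv, hv', hvv', phi_symm S G v' v, phi_symm S G w v,
        phi_symm S G w v', hwv, hwv']
      have := twoK S
      field_simp
      ring
    have h1 := hT y hyy (by rw [hvy]; exact one_ne_zero) k (by rw [hpol, hvy, hk])
    have h2 := hT v' hv' (by rw [hvv']; exact one_ne_zero) k (by rw [hpol, hvv', hk])
    have h3 : ev K y k = ev K v' k + x - ev K v (k * ((2 : K)⁻¹ * G.phi w w)) := by
      rw [ev_apply y, hy, mulVec_sub, mulVec_add, ← ev_mul, ev_apply v' k, hw, ← ev_mul,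
        mul_inv_cancel₀ hk0, ev_one]
    rw [h3] at h1
    have := add_mem (sub_mem h1 h2) (hL (k * ((2 : K)⁻¹ * G.phi w w)))
    convert this using 1
    abel
  intro z hz
  obtain ⟨z', h1, h2, -, he⟩ := exists_proj S G hv hv' hvv' z
  have hz' : QuadraticMap.polar Qf (ev K v' (G.phi v z)) (ev K v 1) = 0 := by
    rw [hpol, hvv', mul_one, theta_phi S G, S.symm]; exact hz
  have hmem : z ∈ zset M hu := by
    rw [he]
    exact add_mem (add_mem (hW z' h1 h2) (hL _))
      (hT v' hv' (by rw [hvv']; exact one_ne_zero) _ hz')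
  have h5 := hmem.2
  rwa [ev_one] at h5

omit hR in
/-- Fullness is carried along by the elements linear over the field. -/
theorem zset_map {d : GL ι F} (hd : d ∈ H) {u z : ι → F} (hu : Qf u = 0)
    (hz : z ∈ zset M hu) :
    QuadraticMap.polar Qf ((d : Matrix ι ι F) *ᵥ u) ((d : Matrix ι ι F) *ᵥ z) = 0 ∧
      eich Qf ((d : Matrix ι ι F) *ᵥ u) ((d : Matrix ι ι F) *ᵥ z) ∈ M := by
  obtain ⟨d', hd', hdd⟩ := hM d hd
  refine ⟨by rw [isom_form S hd]; exact hz.1, ?_⟩
  rw [← hdd, ← hdd, ← conj_eich]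
  exact mul_mem (mul_mem hd' hz.2) (inv_mem hd')

variable (hn : 4 * r ≤ Fintype.card ι)
variable (hn' : ∃ g ∈ H, ∃ (x : ι → F), G.phi x x = 0 ∧ ∃ k : K,
      (g : Matrix ι ι F) *ᵥ ((k : Matrix ι ι F) *ᵥ x) ∉ kline K ((g : Matrix ι ι F) *ᵥ x))
include hn hn'

/-- An isotropic vector and the orthogonal of its line, for degree two. -/
theorem exists_perp_zset (h6 : 4 * r < Fintype.card ι) {v : ι → F} (hv : G.phi v v = 0)
    (hv0 : v ≠ 0) :
    ∃ c : K, c ≠ 0 ∧ ∀ z, G.phi v z = 0 → z ∈ zset M (form_line S G c hv) := by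
  letI : Field K := (isField_of S.hK S.one_le).toField
  obtain ⟨h, hh, l, c, hl, hlL, hc, hcL, hLv, -⟩ := exists_orth_image S G hn hv hv0 hn'
  refine ⟨c, hc, ?_⟩
  set Z := zset M (form_line S G c hv) with hZ
  have hvl : G.phi v l = 0 := hLv l hl
  have hlZ : l ∈ Z := by
    obtain ⟨p, hp⟩ := mem_lineImg.mp hcL
    obtain ⟨q, hq⟩ := mem_lineImg.mp hl
    obtain ⟨h', hh', hhh⟩ := hM h hh
    refine ⟨by rw [← hp, ← hq, isom_form S hh]; exact polar_line S G p q hv, ?_⟩
    rw [← hp, ← hq, ← hhh, ← hhh, ← conj_eich]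
    exact mul_mem (mul_mem hh' (eich_line_mem S G hM hR hv p q)) (inv_mem hh')
  have hline : ∀ b, G.phi v b = 0 → G.phi b b = 0 → G.phi b l ≠ 0 →
      (∀ k, ev K b k ∈ Z) ∧ ∀ z, G.phi v z = 0 → G.phi b z = 0 → z ∈ Z := by
    intro b hvb hb hbl
    have hD : ∀ w, G.phi v w = 0 → G.phi b w = 0 → ev K w (G.phi b l) -
        ev K b (G.phi w l + (2 : K)⁻¹ * (G.phi w w * G.phi b l)) ∈ Z := by
      intro w hvw hbw
      obtain ⟨e, he, -, hex⟩ := inH_siegel S G hb hbw
      have hfix : (e : Matrix ι ι F) *ᵥ ev K v c = ev K v c := by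
        rw [hex, siegel, phi_ev S.hK (G.klin b), phi_ev S.hK (G.klin w), phi_symm S G b v, hvb,
          phi_symm S G w v, hvw]
        simp
      have h1 := zset_map S hM he (form_line S G c hv) hlZ
      rw [hfix] at h1
      have := sub_mem (show (e : Matrix ι ι F) *ᵥ l ∈ Z from h1) hlZ
      convert this using 1
      rw [hex, siegel, show (2 : F)⁻¹ • ev K b (G.phi w w * G.phi b l) =
          ev K b ((2 : K)⁻¹ * (G.phi w w * G.phi b l)) by
        rw [← map_smul, Algebra.smul_def, map_inv₀, map_ofNat], map_add (ev K b)]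
      abel
    obtain ⟨w₀, ⟨hvw₀, hbw₀⟩, hw₀⟩ := exists_aniso_mem S G (finrank_two_ge S G h6 v b)
    have hsq : ∀ w, G.phi v w = 0 → G.phi b w = 0 →
        ev K b (G.phi w w * G.phi b l) ∈ Z := by
      intro w hvw hbw
      obtain ⟨k, hk⟩ : ∃ k, k = -(G.phi w w * G.phi b l) := ⟨_, rfl⟩
      suffices ev K b k ∈ Z by
        have := neg_mem this
        rwa [hk, map_neg, neg_neg] at this
      have hw : G.phi w w = -k * (G.phi b l)⁻¹ := by
        rw [hk, neg_neg, mul_assoc, mul_inv_cancel₀ hbl, mul_one]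
      have hvw' : G.phi v w = 0 := hvw
      have hbw' : G.phi b w = 0 := hbw
      have h1 := hD w hvw' hbw'
      have h2 := hD (-w) (by rw [map_neg, hvw', neg_zero]) (by rw [map_neg, hbw', neg_zero])
      have e1 : ∀ x : ι → F, G.phi (-w) x = -G.phi w x := fun x => by
        rw [phi_symm S G (-w), map_neg, phi_symm S G x w]
      rw [e1, e1, map_neg, neg_neg, hw] at h2
      rw [hw] at h1
      have h3 := add_mem h1 h2
      convert h3 using 1
      rw [show ev K (-w) (G.phi b l) = -ev K w (G.phi b l) by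
        rw [ev_apply, mulVec_neg, ev_apply]]
      have := twoK S
      rw [show -k * (G.phi b l)⁻¹ * G.phi b l = -k by field_simp]
      have e2 : ev K b k = -(ev K b (G.phi w l + (2 : K)⁻¹ * -k) +
          ev K b (-G.phi w l + (2 : K)⁻¹ * -k)) := by
        rw [← map_add, ← map_neg]
        congr 1
        field_simp
        ring
      rw [e2]
      abel
    have hb' : ∀ k, ev K b k ∈ Z := by
      intro k
      obtain ⟨c', hc'⟩ : ∃ c', c' = k * (G.phi w₀ w₀ * G.phi b l)⁻¹ := ⟨_, rfl⟩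
      have hsc : ∀ s : K, ev K b (s * s * (G.phi w₀ w₀ * G.phi b l)) ∈ Z := fun s => by
        have := hsq (ev K w₀ s) (by rw [phi_ev S.hK (G.klin v), hvw₀, mul_zero])
          (by rw [phi_ev S.hK (G.klin b), hbw₀, mul_zero])
        rwa [phi_ev_left S G, phi_ev S.hK (G.klin w₀), ← mul_assoc, mul_assoc (s * s)] at this
      have := sub_mem (hsc ((2 : K)⁻¹ * (c' + 1))) (hsc ((2 : K)⁻¹ * (c' - 1)))
      rw [← map_sub] at this
      convert this using 2
      have h2K := twoK S
      have h0 : G.phi w₀ w₀ * G.phi b l ≠ 0 := mul_ne_zero hw₀ hbl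
      rw [hc']
      field_simp
      ring
    refine ⟨hb', fun z hvz hbz => ?_⟩
    obtain ⟨w, hw⟩ : ∃ w, w = ev K z (G.phi b l)⁻¹ := ⟨_, rfl⟩
    have h1 := hD w (by rw [hw, phi_ev S.hK (G.klin v), hvz, mul_zero])
      (by rw [hw, phi_ev S.hK (G.klin b), hbz, mul_zero])
    have h2 := add_mem h1 (hb' (G.phi w l + (2 : K)⁻¹ * (G.phi w w * G.phi b l)))
    rw [sub_add_cancel, hw, ev_apply _ (G.phi b l), ← ev_mul, mul_inv_cancel₀ hbl, ev_one] at h2
    exact h2
  obtain ⟨b, hvb, hb, hbl⟩ := exists_iso_perp S G h6 hv hv0 hlL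
  obtain ⟨b2, hvb2, hb2, hbb2, hb2l⟩ := exists_iso_perp_pair S G h6 hv hv0 hvb hb hbl hvl
  intro z hz
  obtain ⟨k, hk⟩ : ∃ k, k = G.phi b z * (G.phi b b2)⁻¹ := ⟨_, rfl⟩
  have h1 := (hline b hvb hb hbl).2 (z - ev K b2 k)
    (by rw [map_sub, hz, phi_ev S.hK (G.klin v), hvb2, mul_zero, sub_zero])
    (by rw [map_sub, phi_ev S.hK (G.klin b), hk, mul_assoc, inv_mul_cancel₀ hbb2, mul_one,
      sub_self])
  have := add_mem h1 ((hline b2 hvb2 hb2 hb2l).1 k)
  rwa [sub_add_cancel] at this

/-- Fullness of isotropic vectors for degree two. -/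
theorem full_of_two (h6 : 4 * r < Fintype.card ι) {v : ι → F} (hv : G.phi v v = 0) (hv0 : v ≠ 0) :
    OrthStab.Full M v := by
  letI : Field K := (isField_of S.hK S.one_le).toField
  -- every isotropic vector has the orthogonal of its line
  have hP : ∀ x, G.phi x x = 0 → x ≠ 0 → ∀ z, G.phi x z = 0 → eich Qf x z ∈ M := by
    intro x hx hx0 z hz
    obtain ⟨c, hc, hcz⟩ := exists_perp_zset S G hM hR hn hn' h6 hx hx0
    obtain ⟨x', hx', hxx'⟩ := exists_partner S G hx hx0
    obtain ⟨d, hd, hdc, hdx⟩ := exists_move_to S G hn hx hx' (by rw [hxx']; exact one_ne_zero)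
      (k := 1) one_ne_zero
    obtain ⟨d', hd', hdc', hdx'⟩ := exists_move_to S G hn hx' hx
      (by rw [phi_symm S G, hxx']; exact one_ne_zero) (inv_ne_zero hc)
    have hmove : ((d' * d : GL ι F) : Matrix ι ι F) *ᵥ ev K x c = x := by
      rw [ev_apply, (hdc'.mul hdc), Units.val_mul, ← mulVec_mulVec, hdx, ev_one, hdx', ← ev_mul,
        mul_inv_cancel₀ hc, ev_one]
    obtain ⟨z0, rfl⟩ : ∃ z0, ((d' * d : GL ι F) : Matrix ι ι F) *ᵥ z0 = z :=
      ⟨_, mulVec_inv_mulVec _ z⟩
    have hz0 : G.phi x z0 = 0 := by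
      refine G.sep _ fun k => ?_
      rw [← spec_right S G, ← isom_form S (mul_mem hd' hd),
        show ev K x k = ev K (ev K x c) (k * c⁻¹) by
          rw [ev_apply (ev K x c), ← ev_mul, mul_assoc, inv_mul_cancel₀ hc, mul_one],
        ev_apply (ev K x c), hdc'.mul hdc, hmove, ← ev_apply, spec_right S G, hz, mul_zero, map_zero]
    have := (zset_map S hM (mul_mem hd' hd) (form_line S G c hx) (hcz z0 hz0)).2
    rwa [hmove] at this
  obtain ⟨v', hv', hvv'⟩ := exists_partner S G hv hv0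
  have hu : Qf v = 0 := form_eq_zero S G hv
  intro z hz
  obtain ⟨t, ht⟩ : ∃ t, t = ev K v' (G.phi v z) := ⟨_, rfl⟩
  have htv : QuadraticMap.polar Qf t v = 0 := by
    rw [ht, ← theta_phi S G, phi_ev S.hK (G.klin v), hvv', mul_one, theta_phi S G, S.symm]
    exact hz
  have hrest : G.phi v (z - t) = 0 := by
    rw [ht, map_sub, phi_ev S.hK (G.klin v), hvv', mul_one, sub_self]
  suffices htM : eich Qf v t ∈ M by
    have hr0 : QuadraticMap.polar Qf v (z - t) = 0 := by
      rw [S.symm, ← theta_phi S G, hrest, map_zero]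
    have := mul_mem (hP v hv hv0 (z - t) hrest) htM
    rwa [eich_mul hu hr0 (by rw [S.symm]; exact htv), sub_add_cancel] at this
  rcases eq_or_ne t 0 with rfl | ht0
  · rw [UnitaryOrthogonal.eich_zero]; exact one_mem M
  have htt : G.phi t t = 0 := by rw [ht]; exact line_iso S G _ hv'
  have hv't : G.phi v' t = 0 := by rw [ht, phi_ev S.hK (G.klin v'), hv', mul_zero]
  -- an isotropic vector orthogonal to both lines
  obtain ⟨a, hva, hv'a, ha⟩ := exists_aniso_perp S G (by omega) hv hv' hvv'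
  obtain ⟨b, hb⟩ : ∃ b : ι → F, b ≠ 0 ∧ G.phi v b = 0 ∧ G.phi v' b = 0 := by
    exact ⟨a, fun h0 => ha (by rw [h0, map_zero]), hva, hv'a⟩
  obtain ⟨z1, hz1v, hz1v', hz1⟩ : ∃ z1, G.phi v z1 = 0 ∧ G.phi v' z1 = 0 ∧
      QuadraticMap.polar Qf b z1 = 1 := by
    obtain ⟨x, hx⟩ : ∃ x, QuadraticMap.polar Qf b x ≠ 0 := by
      by_contra hc; push Not at hc; exact hb.1 (S.nd b hc)
    obtain ⟨x', h1, h2, h3, -⟩ := exists_proj S G hv hv' hvv' x
    refine ⟨(QuadraticMap.polar Qf b x)⁻¹ • x', by rw [map_smul, h1, smul_zero],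
      by rw [map_smul, h2, smul_zero], ?_⟩
    have e : QuadraticMap.polar Qf b x' = QuadraticMap.polar Qf b x := by
      rw [S.symm b x', S.symm b x, ← theta_phi S G, h3 b hb.2.1 hb.2.2, theta_phi S G]
    rw [QuadraticMap.polar_smul_right, smul_eq_mul, e, inv_mul_cancel₀ hx]
  have htb : G.phi t b = 0 := by
    rw [ht, phi_ev_left S G, hb.2.2, mul_zero]
  have htz : G.phi t z1 = 0 := by rw [ht, phi_ev_left S G, hz1v', mul_zero]
  have he := hP t htt ht0 b htb
  have hQt : Qf t = 0 := form_eq_zero S G htt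
  have ptb : QuadraticMap.polar Qf t b = 0 := by rw [S.symm, ← theta_phi S G, htb, map_zero]
  have ptz : QuadraticMap.polar Qf t z1 = 0 := by rw [S.symm, ← theta_phi S G, htz, map_zero]
  have pbv : QuadraticMap.polar Qf b v = 0 := by rw [← theta_phi S G, hb.2.1, map_zero]
  have pvz : QuadraticMap.polar Qf v z1 = 0 := by rw [S.symm, ← theta_phi S G, hz1v, map_zero]
  have hz1M := hP v hv hv0 z1 hz1v
  have h1 := mul_mem (mul_mem he hz1M) (inv_mem he)
  have eu : (eich Qf t b).1 v = v := by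
    rw [eich_apply hQt ptb, htv, pbv]; simp
  have ez : (eich Qf t b).1 z1 = z1 - t := by
    rw [eich_apply hQt ptb, ptz, hz1]; simp
  rw [conj_eich, eu, ez] at h1
  have hd : z1 - t ∈ zset M hu :=
    ⟨by rw [QuadraticMap.polar_sub_right, pvz, S.symm v t, htv, sub_zero], h1⟩
  have := sub_mem (show z1 ∈ zset M hu from ⟨pvz, hz1M⟩) hd
  rw [sub_sub_cancel] at this
  exact this.2

omit hR hn hn' in
/-- Two full isotropic vectors give all root elements. -/
theorem eichGroup_le_of_full (hQ : UnitaryOrthogonal.PolarND Qf)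
    (h5 : 5 ≤ Module.finrank F (ι → F)) {v : ι → F} (hv : G.phi v v = 0) (hv0 : v ≠ 0)
    (hfull : ∀ x, G.phi x x = 0 → x ≠ 0 → OrthStab.Full M x) : eichGroup Qf ≤ M := by
  letI : Field K := (isField_of S.hK S.one_le).toField
  obtain ⟨v', hv', hvv'⟩ := exists_partner S G hv hv0
  obtain ⟨a, ha⟩ : ∃ a : K, QuadraticMap.polar Qf v (ev K v' a) ≠ 0 := by
    by_contra hc
    push Not at hc
    refine one_ne_zero (G.sep (1 : K) fun a => ?_)
    rw [← hvv', ← phi_ev S.hK (G.klin v), theta_phi S G, S.symm]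
    exact hc a
  have ha0 : ev K v' a ≠ 0 := fun h => ha (by rw [h]; simp)
  exact OrthStab.eichGroup_le_of_hypPair hQ h5 (form_eq_zero S G hv) (form_line S G a hv') ha
    (hfull v hv hv0) (hfull _ (line_iso S G a hv') ha0)

omit hR in
/-- The group contains all root elements. -/
theorem eichGroup_le (hQ : UnitaryOrthogonal.PolarND Qf)
    (h5 : 5 ≤ Module.finrank F (ι → F)) (h6 : r = 2 → 4 * r < Fintype.card ι) :
    eichGroup Qf ≤ M := by
  have hR : ∀ v, G.phi v v = 0 → ∀ p q : K, ∃ g ∈ H, ∀ x,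
      (g : Matrix ι ι F) *ᵥ x = x + ev K v (skewMap G.theta p q (G.phi v x)) :=
    fun v hv p q => root_mem S G hn hv hn' p q
  obtain ⟨g, hg, v, hv, k, hk⟩ := id hn'
  have hv0 : v ≠ 0 := fun h => hk (by rw [h]; simp)
  refine eichGroup_le_of_full S G hM hQ h5 hv hv0 fun x hx hx0 => ?_
  rcases Nat.lt_or_ge r 3 with h | h
  · exact full_of_two S G hM hR hn hn' (h6 (by have := S.hr.two_le; omega)) hx hx0
  · exact full_of_three S G hM hR h hx hx0

end Cfsg.Agent.ExtFieldMax.Orth
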