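import Cfsg.Agent.ExtFieldMax.Orth.Tools

/-!
An image of an isotropic line inside its orthogonal, meeting it in a hyperplane (helper98).
-/

set_option autoImplicit false

namespace Cfsg.Agent.ExtFieldMax.Orth

open Matrix Cfsg.Agent.MaxSub
open scoped commutatorElement

variable {ι : Type} [Fintype ι] [DecidableEq ι] {F : Type*} [Field F] [Finite F]
variable {f : (ι → F) → (ι → F) → F} {K : Subalgebra F (Matrix ι ι F)} {r : ℕ}
variable {H : Subgroup (GL ι F)} (S : Setting f K r H) (G : Sp.KForm f K)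
variable (hn : 4 * r ≤ Fintype.card ι)
include S hn

omit hn in
theorem form_lineImg {h : GL ι F} (hh : h ∈ H) {v : ι → F} (hv : G.phi v v = 0)
    {x y : ι → F} (hx : x ∈ lineImg K h v) (hy : y ∈ lineImg K h v) : f x y = 0 := by
  obtain ⟨μ, rfl⟩ := mem_lineImg.mp hx
  obtain ⟨ν, rfl⟩ := mem_lineImg.mp hy
  rw [isom_form S hh, spec_right S G, phi_ev S.hK (G.klin v), hv, mul_zero, mul_zero, map_zero]

omit hn [Finite F] in
theorem siegel_scaled (u w x : ι → F) (s : K) :
    siegel G u (ev K w s) x - x = ev K w (s * G.phi u x) - ev K u (s * G.phi w x) -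
      (2 : F)⁻¹ • ev K u (s * s * (G.phi w w * G.phi u x)) := by
  rw [siegel, phi_ev_left S G w s x, phi_ev_left S G w s, phi_ev S.hK (G.klin w),
    ev_apply _ (G.phi u x), ← ev_mul, kmul_comm S.hK (G.phi u x) s,
    show s * (s * G.phi w w) * G.phi u x = s * s * (G.phi w w * G.phi u x) by
      simp only [mul_assoc]]
  abel

/-- Some image of an isotropic line meets it without being equal to it. -/
theorem exists_meeting {v : ι → F} (hv : G.phi v v = 0) (hv0 : v ≠ 0)
    (hn' : ∃ g ∈ H, ∃ (x : ι → F), G.phi x x = 0 ∧ ∃ k : K,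
      (g : Matrix ι ι F) *ᵥ ((k : Matrix ι ι F) *ᵥ x) ∉ kline K ((g : Matrix ι ι F) *ᵥ x)) :
    ∃ h ∈ H, lineImg K h v ≠ kline K v ∧
      0 < Module.finrank F ↥(kline K v ⊓ lineImg K h v) := by
  letI : Field K := (isField_of S.hK S.one_le).toField
  -- moving the base point to `v`
  have transfer : ∀ h' ∈ H, ∀ u, G.phi u u = 0 → u ≠ 0 → lineImg K h' u ≠ kline K u →
      (∃ y ∈ kline K u, y ≠ 0 ∧ y ∈ lineImg K h' u) →
      ∃ h ∈ H, lineImg K h v ≠ kline K v ∧
        0 < Module.finrank F ↥(kline K v ⊓ lineImg K h v) := by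
    rintro h' hh' u hu hu0 hne ⟨y, hy, hy0, hy'⟩
    obtain ⟨c, hc, hcc, k, hk, hcv⟩ := exists_move S G hn hv hv0 hu hu0
    have hline : ∀ x, x ∈ lineImg K c v ↔ x ∈ kline K u := by
      intro x
      constructor
      · intro hx
        obtain ⟨μ, rfl⟩ := mem_lineImg.mp hx
        rw [ev_apply, hcc, hcv]
        exact kline_stable u μ ⟨k, rfl⟩
      · rintro ⟨μ, rfl⟩
        refine mem_lineImg.mpr ⟨μ * k⁻¹, ?_⟩
        rw [ev_apply v, hcc, hcv, ← ev_mul, mul_assoc, inv_mul_cancel₀ hk, mul_one]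
    have hconv : ∀ x, x ∈ lineImg K (c⁻¹ * h' * c) v ↔
        (c : Matrix ι ι F) *ᵥ x ∈ lineImg K h' u := by
      intro x
      constructor
      · intro hx
        obtain ⟨μ, rfl⟩ := mem_lineImg.mp hx
        obtain ⟨ν, hν⟩ := (hline _).mp (mem_lineImg.mpr ⟨μ, rfl⟩)
        exact mem_lineImg.mpr ⟨ν, by rw [Units.val_mul, Units.val_mul, ← mulVec_mulVec,
          ← mulVec_mulVec, mulVec_inv_mulVec, hν]⟩
      · intro hx
        obtain ⟨ν, hν⟩ := mem_lineImg.mp hx
        obtain ⟨μ, hμ⟩ := mem_lineImg.mp ((hline _).mpr ⟨ν, rfl⟩)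
        exact mem_lineImg.mpr ⟨μ, by rw [Units.val_mul, Units.val_mul, ← mulVec_mulVec,
          ← mulVec_mulVec, hμ, hν, inv_mulVec_mulVec]⟩
    have hv' : ∀ x, (c : Matrix ι ι F) *ᵥ x ∈ kline K u ↔ x ∈ kline K v := by
      intro x
      rw [← hline]
      constructor
      · intro hx
        obtain ⟨μ, hμ⟩ := mem_lineImg.mp hx
        exact ⟨μ, mulVec_injective c hμ⟩
      · rintro ⟨μ, rfl⟩
        exact mem_lineImg.mpr ⟨μ, rfl⟩
    refine ⟨c⁻¹ * h' * c, mul_mem (mul_mem (inv_mem hc) hh') hc, fun he => hne ?_, ?_⟩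
    · refine SetLike.ext fun x => ?_
      obtain ⟨x, rfl⟩ : ∃ x', (c : Matrix ι ι F) *ᵥ x' = x := ⟨_, mulVec_inv_mulVec c x⟩
      rw [← hconv, hv', he]
    · refine Module.finrank_pos_iff_exists_ne_zero.mpr
        ⟨⟨((c⁻¹ : GL ι F) : Matrix ι ι F) *ᵥ y, ?_, ?_⟩, fun h0 =>
          mulVec_ne_zero c⁻¹ hy0 (congrArg Subtype.val h0)⟩
      · rw [SetLike.mem_coe, ← hv', mulVec_inv_mulVec]; exact hy
      · rw [SetLike.mem_coe, hconv, mulVec_inv_mulVec]; exact hy'
  obtain ⟨g, hg, u, hu, k0, hgu⟩ := hn'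
  have hu0 : u ≠ 0 := fun h => hgu (by simp [h])
  set T := lineImg K g u with hT
  set y := (g : Matrix ι ι F) *ᵥ u with hy
  have hyT : y ∈ T := mem_lineImg.mpr ⟨1, by rw [ev_one]⟩
  have hy0 : y ≠ 0 := mulVec_ne_zero g hu0
  have hTne : T ≠ kline K y := fun he => hgu (he ▸ mem_lineImg.mpr ⟨k0, rfl⟩)
  by_cases hyiso : G.phi y y = 0
  · -- already an isotropic point
    obtain ⟨c, hc, hcc, k, hk, hcy⟩ := exists_move S G hn hyiso hy0 hu hu0
    refine transfer (g * c) (mul_mem hg hc) y hyiso hy0 (fun he => hTne ?_)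
      ⟨y, self_mem_kline y, hy0, ?_⟩
    · rw [← he]
      refine SetLike.ext fun x => ?_
      constructor
      · intro hx
        obtain ⟨μ, rfl⟩ := mem_lineImg.mp hx
        refine mem_lineImg.mpr ⟨μ * k⁻¹, ?_⟩
        rw [Units.val_mul, ← mulVec_mulVec, ev_apply y, hcc, hcy, ← ev_mul, mul_assoc,
          inv_mul_cancel₀ hk, mul_one]
      · intro hx
        obtain ⟨μ, rfl⟩ := mem_lineImg.mp hx
        exact mem_lineImg.mpr ⟨μ * k,
          by rw [Units.val_mul, ← mulVec_mulVec, ev_apply y, hcc, hcy, ← ev_mul]⟩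
    · refine mem_lineImg.mpr ⟨k⁻¹, ?_⟩
      rw [Units.val_mul, ← mulVec_mulVec, ev_apply y, hcc, hcy, ← ev_mul, inv_mul_cancel₀ hk,
        ev_one, hy]
  -- some element fixing `y` moves `T`
  obtain ⟨e, he, hey, z, hz, hez⟩ : ∃ e ∈ H, (e : Matrix ι ι F) *ᵥ y = y ∧
      ∃ z ∈ T, (e : Matrix ι ι F) *ᵥ z ∉ T := by
    by_contra hc
    push Not at hc
    obtain ⟨x, hxT, hxy⟩ : ∃ x ∈ T, x ∉ kline K y := by
      by_contra hc'
      push Not at hc'
      exact hTne (Submodule.eq_of_le_of_finrank_eq hc'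
        (by rw [hT, finrank_lineImg S.hK g hu0, finrank_kline S.hK hy0]))
    have main : ∀ u', G.phi u' u' = 0 → G.phi y u' = 0 → G.phi u' x = 0 := by
      intro u' hu' hyu'
      by_contra hne
      have hu'0 : u' ≠ 0 := fun h => hne (by rw [h, phi_symm S G]; exact map_zero _)
      have hu'y : G.phi u' y = 0 := by rw [phi_symm S G, hyu']
      obtain ⟨p, hp, hup⟩ := exists_partner S G hu' hu'0
      obtain ⟨p1, hp1⟩ : ∃ p1, p1 = p - ev K y ((G.phi y y)⁻¹ * G.phi y p) := ⟨_, rfl⟩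
      have hup1 : G.phi u' p1 = 1 := by
        rw [hp1, map_sub, phi_ev S.hK (G.klin u'), hu'y, mul_zero, sub_zero, hup]
      have hyp1 : G.phi y p1 = 0 := by
        rw [hp1, map_sub, phi_ev S.hK (G.klin y), mul_right_comm, inv_mul_cancel₀ hyiso, one_mul,
          sub_self]
      obtain ⟨p2, hp2⟩ : ∃ p2, p2 = p1 - ev K u' ((2 : K)⁻¹ * G.phi p1 p1) := ⟨_, rfl⟩
      have hp22 : G.phi p2 p2 = 0 := by
        rw [hp2, phi_sub S G, map_sub, map_sub, phi_ev_left S G, phi_ev_left S G,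
          phi_ev S.hK (G.klin p1), phi_ev S.hK (G.klin u'), hu', phi_symm S G p1 u', hup1]
        have := twoK S
        field_simp
        ring
      obtain ⟨w, hwu, -, hwy, hw⟩ := exists_aniso_perp_perp S G hn hu' hp22 (by
          rw [hp2, map_sub, hup1, phi_ev S.hK (G.klin u'), hu', mul_zero, sub_zero]) hyiso hu'y
        (by
          rw [hp2, phi_sub S G, phi_ev_left S G, hu'y, mul_zero, sub_zero, phi_symm S G p1 y,
            hyp1])
      set c0 := G.phi w w * G.phi u' x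
      have hc0 : c0 ≠ 0 := mul_ne_zero hw hne
      have hsq : ∀ s : K, ev K u' (c0 * (s * s)) ∈ T := by
        intro s
        have e1 : ∀ σ : K, siegel G u' (ev K w σ) x - x ∈ T := by
          intro σ
          obtain ⟨e, he, -, hex⟩ := inH_siegel S G hu' (w := ev K w σ)
            (by rw [phi_ev S.hK (G.klin u'), hwu, mul_zero])
          have hey : (e : Matrix ι ι F) *ᵥ y = y := by
            rw [hex, siegel, hu'y, phi_ev_left S G, phi_symm S G w y, hwy]
            simp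
          have := hc e he hey x hxT
          rw [hex] at this
          exact sub_mem this hxT
        have e2 := neg_mem (add_mem (e1 s) (e1 (-s)))
        rw [siegel_scaled S G, siegel_scaled S G, neg_mul_neg, neg_mul, neg_mul, map_neg, map_neg]
          at e2
        have e4 : ev K u' (c0 * (s * s)) = (2 : F)⁻¹ • ev K u' (s * s * c0) +
            (2 : F)⁻¹ • ev K u' (s * s * c0) := by
          rw [← map_smul, ← map_add, half_two S, mul_comm c0]
        convert e2 using 1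
        rw [e4]
        abel
      have hline : kline K u' ≤ T := by
        rintro _ ⟨k, rfl⟩
        have h1 := sub_mem (hsq ((k / c0 + 1) / 2)) (hsq ((k / c0 - 1) / 2))
        rw [← map_sub] at h1
        convert h1 using 2
        have := twoK S
        field_simp
        ring
      have heq := Submodule.eq_of_le_of_finrank_eq hline
        (by rw [hT, finrank_lineImg S.hK g hu0, finrank_kline S.hK hu'0])
      obtain ⟨μ, hμ⟩ : y ∈ kline K u' := heq ▸ hyT
      exact hyiso (by rw [← hμ, phi_ev_left S G, phi_ev S.hK (G.klin u'), hu', mul_zero, mul_zero])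
    -- isotropic vectors orthogonal to `y` span its orthogonal
    obtain ⟨v1, hv1, hv10, hyv1⟩ : ∃ v1, G.phi v1 v1 = 0 ∧ v1 ≠ 0 ∧ G.phi y v1 = 0 := by
      obtain ⟨u2, hu2, huu2⟩ := exists_partner S G hu hu0
      by_cases h0 : G.phi u y = 0
      · exact ⟨u, hu, hu0, by rw [phi_symm S G, h0]⟩
      obtain ⟨d, hd⟩ : ∃ d, d = G.phi u y := ⟨_, rfl⟩
      obtain ⟨v', hv'⟩ : ∃ v', v' = ev K y d⁻¹ - ev K u ((2 : K)⁻¹ * G.phi y y * d⁻¹ * d⁻¹) :=
        ⟨_, rfl⟩
      have hd0 : d ≠ 0 := hd ▸ h0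
      have e1 : G.phi v' v' = 0 := by
        rw [hv', phi_sub S G, map_sub, map_sub, phi_ev_left S G, phi_ev_left S G, phi_ev_left S G,
          phi_ev_left S G, phi_ev S.hK (G.klin y), phi_ev S.hK (G.klin y), phi_ev S.hK (G.klin u),
          phi_ev S.hK (G.klin u), hu, phi_symm S G y u, ← hd]
        have := twoK S
        field_simp
        ring
      have e2 : G.phi u v' = 1 := by
        rw [hv', map_sub, phi_ev S.hK (G.klin u), phi_ev S.hK (G.klin u), hu, ← hd, mul_zero,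
          sub_zero, inv_mul_cancel₀ hd0]
      obtain ⟨w, w1, w2, w3⟩ := exists_norm_eq S G hn hu e1 e2 (G.phi y y * d⁻¹ * d⁻¹)
      refine ⟨ev K u (-((2 : K)⁻¹ * G.phi y y * d⁻¹ * d⁻¹)) + v' + w, ?_, fun h0' => ?_, ?_⟩
      · simp only [phi_add S G, map_add, phi_ev_left S G, phi_ev S.hK (G.klin _), hu, e1, e2,
          phi_symm S G v' u, phi_symm S G w u, phi_symm S G w v', w1, w2, w3]
        have := twoK S
        field_simp
        ring
      · have := congrArg (G.phi u) h0'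
        rw [map_add, map_add, phi_ev S.hK (G.klin u), hu, e2, w1, map_zero, mul_zero, zero_add,
          add_zero] at this
        exact one_ne_zero this
      · have hy' : y = ev K v' d + ev K u ((2 : K)⁻¹ * G.phi y y * d⁻¹) := by
          rw [hv', ev_apply _ d, mulVec_sub, ← ev_mul, ← ev_mul, mul_inv_cancel₀ hd0, ev_one]
          rw [show d * ((2 : K)⁻¹ * G.phi y y * d⁻¹ * d⁻¹) =
            (2 : K)⁻¹ * G.phi y y * d⁻¹ by field_simp]
          abel
        conv_lhs => arg 1; arg 2; rw [hy']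
        simp only [phi_add S G, map_add, phi_ev_left S G, phi_ev S.hK (G.klin _), hu, e1, e2,
          phi_symm S G v' u, w1, w2]
        have := twoK S
        field_simp
        ring
    obtain ⟨p, hp, hv1p⟩ := exists_partner S G hv1 hv10
    have hv1y : G.phi v1 y = 0 := by rw [phi_symm S G, hyv1]
    obtain ⟨q0, hq0⟩ : ∃ q0, q0 = p - ev K y ((G.phi y y)⁻¹ * G.phi y p) := ⟨_, rfl⟩
    have hv1q0 : G.phi v1 q0 = 1 := by
      rw [hq0, map_sub, phi_ev S.hK (G.klin v1), hv1y, mul_zero, sub_zero, hv1p]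
    obtain ⟨q, hq⟩ : ∃ q, q = q0 - ev K v1 ((2 : K)⁻¹ * G.phi q0 q0) := ⟨_, rfl⟩
    have hqq : G.phi q q = 0 := by
      rw [hq, phi_sub S G, map_sub, map_sub, phi_ev_left S G, phi_ev_left S G,
        phi_ev S.hK (G.klin q0), phi_ev S.hK (G.klin v1), hv1, phi_symm S G q0 v1, hv1q0]
      have := twoK S
      field_simp
      ring
    have hv1q : G.phi v1 q = 1 := by
      rw [hq, map_sub, hv1q0, phi_ev S.hK (G.klin v1), hv1, mul_zero, sub_zero]
    have hqy : G.phi y q = 0 := by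
      rw [hq, hq0, map_sub, map_sub, phi_ev S.hK (G.klin y), phi_ev S.hK (G.klin y), hyv1,
        mul_zero, sub_zero, mul_right_comm, inv_mul_cancel₀ hyiso, one_mul, sub_self]
    have hqv1 : G.phi q v1 = 1 := by rw [phi_symm S G, hv1q]
    have hx1 := main v1 hv1 hyv1
    have hx2 := main q hqq hqy
    refine hxy ?_
    obtain ⟨x', hx'⟩ : ∃ x', x' = x - ev K y ((G.phi y y)⁻¹ * G.phi y x) := ⟨_, rfl⟩
    suffices h0 : x' = 0 from ⟨(G.phi y y)⁻¹ * G.phi y x, (sub_eq_zero.mp (hx' ▸ h0)).symm⟩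
    refine phi_eq_zero S G fun t => ?_
    have hx'y : G.phi x' y = 0 := by
      rw [phi_symm S G, hx', map_sub, phi_ev S.hK (G.klin y), mul_right_comm,
        inv_mul_cancel₀ hyiso, one_mul, sub_self]
    have hx'v : G.phi x' v1 = 0 := by
      rw [hx', phi_sub S G, phi_ev_left S G, hyv1, mul_zero, sub_zero, phi_symm S G, hx1]
    have hx'q : G.phi x' q = 0 := by
      rw [hx', phi_sub S G, phi_ev_left S G, hqy, mul_zero, sub_zero, phi_symm S G, hx2]
    obtain ⟨t', ht1, ht2, -, ht⟩ := exists_proj S G hv1 hqq hv1q t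
    obtain ⟨t2, ht2'⟩ : ∃ t2, t2 = t' - ev K y ((G.phi y y)⁻¹ * G.phi y t') := ⟨_, rfl⟩
    have hyt2 : G.phi y t2 = 0 := by
      rw [ht2', map_sub, phi_ev S.hK (G.klin y), mul_right_comm, inv_mul_cancel₀ hyiso, one_mul,
        sub_self]
    have hvt2 : G.phi v1 t2 = 0 := by
      rw [ht2', map_sub, ht1, phi_ev S.hK (G.klin v1), hv1y, mul_zero, sub_zero]
    have hqt2 : G.phi q t2 = 0 := by
      rw [ht2', map_sub, ht2, phi_ev S.hK (G.klin q), phi_symm S G q y, hqy, mul_zero, sub_zero]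
    have h5 := main (q + t2 - ev K v1 ((2 : K)⁻¹ * G.phi t2 t2))
      (by
        simp only [phi_sub S G, phi_add S G, map_sub, map_add, phi_ev_left S G,
          phi_ev S.hK (G.klin _), hv1, hqq, hv1q, hqv1, hvt2, hqt2, phi_symm S G t2 v1,
          phi_symm S G t2 q]
        have := twoK S
        field_simp
        ring)
      (by rw [map_sub, map_add, hqy, hyt2, phi_ev S.hK (G.klin y), hyv1, mul_zero, sub_zero,
        add_zero])
    rw [phi_sub S G, phi_add S G, hx2, phi_ev_left S G, hx1, mul_zero, sub_zero, zero_add] at h5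
    have h6 : G.phi x' t2 = 0 := by
      rw [hx', phi_sub S G, phi_ev_left S G, hyt2, mul_zero, sub_zero, phi_symm S G, h5]
    rw [ht2', map_sub, phi_ev S.hK (G.klin x'), hx'y, mul_zero, sub_zero] at h6
    rw [ht, map_add, map_add, phi_ev S.hK (G.klin x'), phi_ev S.hK (G.klin x'), hx'v, hx'q,
      h6, mul_zero, mul_zero, add_zero, add_zero]
  -- the conjugate
  refine transfer (g⁻¹ * e * g) (mul_mem (mul_mem (inv_mem hg) he) hg) u hu hu0 (fun heq => hez ?_)
    ⟨u, self_mem_kline u, hu0, mem_lineImg.mpr ⟨1, ?_⟩⟩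
  · obtain ⟨μ, hμ⟩ := mem_lineImg.mp hz
    have : ((g⁻¹ * e * g : GL ι F) : Matrix ι ι F) *ᵥ ev K u μ ∈ kline K u :=
      heq ▸ mem_lineImg.mpr ⟨μ, rfl⟩
    rw [Units.val_mul, Units.val_mul, ← mulVec_mulVec, ← mulVec_mulVec, hμ] at this
    obtain ⟨ν, hν⟩ := this
    exact mem_lineImg.mpr ⟨ν, by rw [hν, mulVec_inv_mulVec]⟩
  · rw [ev_one, Units.val_mul, Units.val_mul, ← mulVec_mulVec, ← mulVec_mulVec, ← hy, hey, hy,
      inv_mulVec_mulVec]

/-- The image inside the orthogonal, meeting the line in a hyperplane. -/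
theorem exists_orth_image {v : ι → F} (hv : G.phi v v = 0) (hv0 : v ≠ 0)
    (hn' : ∃ g ∈ H, ∃ (x : ι → F), G.phi x x = 0 ∧ ∃ k : K,
      (g : Matrix ι ι F) *ᵥ ((k : Matrix ι ι F) *ᵥ x) ∉ kline K ((g : Matrix ι ι F) *ᵥ x)) :
    ∃ h ∈ H, ∃ (l : ι → F) (c : K), l ∈ lineImg K h v ∧ l ∉ kline K v ∧ c ≠ 0 ∧
      ev K v c ∈ lineImg K h v ∧ (∀ x ∈ lineImg K h v, G.phi v x = 0) ∧
      ∀ x ∈ lineImg K h v, ∃ a : F, x - a • l ∈ kline K v := by
  classical
  letI : Field K := (isField_of S.hK S.one_le).toField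
  set L := kline K v with hL
  let P : ℕ → Prop := fun a => ∃ h ∈ H, lineImg K h v ≠ L ∧
    Module.finrank F ↥(L ⊓ lineImg K h v) = a
  obtain ⟨h1, hh1, hne1, hpos1⟩ := exists_meeting S G hn hv hv0 hn'
  have hle : ∀ g : GL ι F, Module.finrank F ↥(L ⊓ lineImg K g v) ≤ r := fun g =>
    (Submodule.finrank_mono inf_le_left).trans (finrank_kline S.hK hv0).le
  obtain ⟨h0, hh0, hne0, ha⟩ := Nat.findGreatest_spec (P := P) (hle h1) ⟨h1, hh1, hne1, rfl⟩
  have hmax : ∀ g ∈ H, lineImg K g v ≠ L →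
      Module.finrank F ↥(L ⊓ lineImg K g v) ≤ Module.finrank F ↥(L ⊓ lineImg K h0 v) :=
    fun g hg hgne => ha ▸ Nat.le_findGreatest (hle g) ⟨g, hg, hgne, rfl⟩
  have hrk : ∀ g : GL ι F, Module.finrank F (lineImg K g v) = r := fun g =>
    finrank_lineImg S.hK g hv0
  have claimA : ∀ h ∈ H, lineImg K h v ≠ L → Module.finrank F ↥(L ⊓ lineImg K h0 v) ≤
        Module.finrank F ↥(L ⊓ lineImg K h v) →
      ∀ e ∈ H, (∀ x ∈ L, (e : Matrix ι ι F) *ᵥ x = x) → ∀ l ∈ lineImg K h v, l ∉ L →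
      (e : Matrix ι ι F) *ᵥ l ∈ lineImg K h v →
      ∀ x ∈ lineImg K h v, (e : Matrix ι ι F) *ᵥ x ∈ lineImg K h v := by
    intro h hh hne hge e he hefix l hl hlL hel
    set L' := lineImg K h v
    have heL : lineImg K (h⁻¹ * e * h) v = L := by
      by_contra hne'
      have h2 := hmax _ (mul_mem (mul_mem (inv_mem hh) he) hh) hne'
      set T := (L ⊓ L') ⊔ Submodule.span F {l}
      have hT : ∀ s ∈ T, s ∈ L' ∧ (e : Matrix ι ι F) *ᵥ s ∈ L' := by
        intro s hs
        obtain ⟨y, hy, z, hz, rfl⟩ := Submodule.mem_sup.mp hs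
        obtain ⟨a, rfl⟩ := Submodule.mem_span_singleton.mp hz
        refine ⟨add_mem hy.2 (L'.smul_mem a hl), ?_⟩
        rw [mulVec_add, mulVec_smul, hefix y hy.1]
        exact add_mem hy.2 (L'.smul_mem a hel)
      have hlt : L ⊓ L' < T := lt_of_le_of_ne le_sup_left fun he' => hlL
        ((he' ▸ Submodule.mem_sup_right (Submodule.mem_span_singleton_self l) : l ∈ L ⊓ L').1)
      have h3 : T.map ((h⁻¹ * e : GL ι F) : Matrix ι ι F).mulVecLin ≤
          L ⊓ lineImg K (h⁻¹ * e * h) v := by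
        rintro _ ⟨s, hs, rfl⟩
        obtain ⟨μ, hμ⟩ := mem_lineImg.mp (hT s hs).1
        refine ⟨?_, mem_lineImg.mpr ⟨μ, ?_⟩⟩
        · show ((h⁻¹ * e : GL ι F) : Matrix ι ι F) *ᵥ s ∈ L
          rw [Units.val_mul, ← mulVec_mulVec]
          exact inv_mem_kline (hT s hs).2
        · show _ = ((h⁻¹ * e : GL ι F) : Matrix ι ι F) *ᵥ s
          rw [← hμ, Units.val_mul (h⁻¹ * e) h, ← mulVec_mulVec]
      have h4 := Submodule.finrank_mono h3
      rw [finrank_map_gl] at h4
      have h5 := Submodule.finrank_lt_finrank_of_lt hlt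
      omega
    intro x hx
    obtain ⟨μ, hμ⟩ := mem_lineImg.mp hx
    have h2 : ((h⁻¹ * e * h : GL ι F) : Matrix ι ι F) *ᵥ ev K v μ ∈ L :=
      heL ▸ mem_lineImg.mpr ⟨μ, rfl⟩
    rw [Units.val_mul, Units.val_mul, ← mulVec_mulVec, ← mulVec_mulVec, hμ] at h2
    obtain ⟨ν, hν⟩ := h2
    exact mem_lineImg.mpr ⟨ν, by rw [hν, mulVec_inv_mulVec]⟩
  have hφL : ∀ x ∈ L, G.phi v x = 0 := by
    rintro _ ⟨μ, rfl⟩
    rw [phi_ev S.hK (G.klin v), hv, mul_zero]
  have hposA : 0 < Module.finrank F ↥(L ⊓ lineImg K h0 v) :=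
    hpos1.trans_le (hmax h1 hh1 hne1)
  have hexc : ∀ T : Submodule F (ι → F), 0 < Module.finrank F ↥(L ⊓ T) →
      ∃ c : K, c ≠ 0 ∧ ev K v c ∈ T := by
    intro T hT
    obtain ⟨⟨y, hy, hy'⟩, hy0⟩ := Module.finrank_pos_iff_exists_ne_zero.mp hT
    obtain ⟨c, rfl⟩ := hy
    exact ⟨c, fun h => hy0 (Subtype.ext (by simp [h])), hy'⟩
  -- a maximal image with a point orthogonal to `v`
  obtain ⟨h, hh, hne, hge, l, hl, hlL, hφl⟩ : ∃ h ∈ H, lineImg K h v ≠ L ∧
      Module.finrank F ↥(L ⊓ lineImg K h0 v) ≤ Module.finrank F ↥(L ⊓ lineImg K h v) ∧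
      ∃ l ∈ lineImg K h v, l ∉ L ∧ G.phi v l = 0 := by
    set T := lineImg K h0 v with hT
    by_cases hI : ∃ l ∈ T, l ∉ L ∧ G.phi v l = 0
    · exact ⟨h0, hh0, hne0, le_rfl, hI⟩
    push Not at hI
    obtain ⟨l, hl, hlL⟩ : ∃ l ∈ T, l ∉ L := by
      by_contra hc
      push Not at hc
      exact hne0 (Submodule.eq_of_le_of_finrank_eq hc (by rw [hrk, hL, finrank_kline S.hK hv0]))
    have hd : G.phi v l ≠ 0 := hI l hl hlL
    obtain ⟨v', hv'⟩ : ∃ v', v' = ev K l (G.phi v l)⁻¹ -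
        ev K v ((2 : K)⁻¹ * G.phi l l * (G.phi v l)⁻¹ * (G.phi v l)⁻¹) := ⟨_, rfl⟩
    have e1 : G.phi v' v' = 0 := by
      rw [hv', phi_sub S G, map_sub, map_sub, phi_ev_left S G, phi_ev_left S G, phi_ev_left S G,
        phi_ev_left S G, phi_ev S.hK (G.klin l), phi_ev S.hK (G.klin l), phi_ev S.hK (G.klin v),
        phi_ev S.hK (G.klin v), hv, phi_symm S G l v]
      have := twoK S
      field_simp
      ring
    have e2 : G.phi v v' = 1 := by
      rw [hv', map_sub, phi_ev S.hK (G.klin v), phi_ev S.hK (G.klin v), hv, mul_zero,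
        sub_zero, inv_mul_cancel₀ hd]
    -- the image lies in the plane of `v` and `v'`
    have hrot : ∀ a, G.phi v a = 0 → G.phi v' a = 0 → G.phi a a ≠ 0 →
        ∀ x ∈ T, G.phi a x = 0 := by
      intro a a1 a2 ha0 x hx
      by_contra hax
      obtain ⟨b0, b1, b2, hab, hb0⟩ := exists_aniso_perp_perp S G hn hv e1 e2 ha0 a1 a2
      obtain ⟨t, ht, hNb⟩ : ∃ t : K, t ≠ 0 ∧ G.phi a a + t * t * G.phi b0 b0 ≠ 0 := by
        by_cases h1' : G.phi a a + G.phi b0 b0 ≠ 0
        · exact ⟨1, one_ne_zero, by rwa [one_mul, one_mul]⟩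
        push Not at h1'
        obtain ⟨t, ht0, ht1, ht2⟩ : ∃ t : K, t ≠ 0 ∧ t ≠ 1 ∧ t ≠ -1 := by
          by_contra hc
          push Not at hc
          haveI : Module.Finite F K :=
            Module.finite_of_finrank_pos (by rw [S.hK.finrank_eq]; exact S.hr.pos)
          haveI : Finite K := Module.finite_of_finite F
          have h3 : Nat.card K ≤ 3 := by
            have hsub : (Set.univ : Set K) ⊆ {0, 1, -1} := fun t _ => by
              by_cases h : t = 0
              · simp [h]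
              by_cases h' : t = 1
              · simp [h']
              simp [hc t h h']
            rw [← Set.ncard_univ]
            refine (Set.ncard_le_ncard hsub (Set.toFinite _)).trans ?_
            exact (Set.ncard_insert_le _ _).trans (Nat.succ_le_succ
              ((Set.ncard_insert_le _ _).trans (by rw [Set.ncard_singleton])))
          have h4 : Nat.card K = Nat.card F ^ r := by
            rw [Module.natCard_eq_pow_finrank (K := F) (V := K), S.hK.finrank_eq]
          have h5 : 2 ^ 2 ≤ Nat.card F ^ r :=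
            (Nat.pow_le_pow_left (Finite.one_lt_card (α := F)) 2).trans
              (Nat.pow_le_pow_right Finite.card_pos S.hr.two_le)
          omega
        refine ⟨t, ht0, fun h0' => ?_⟩
        have : G.phi b0 b0 * ((t - 1) * (t + 1)) = 0 := by linear_combination h0' - h1'
        rcases mul_eq_zero.mp this with h | h
        · exact hb0 h
        rcases mul_eq_zero.mp h with h | h
        · exact ht1 (sub_eq_zero.mp h)
        · exact ht2 (eq_neg_of_add_eq_zero_left h)
      obtain ⟨b, hb⟩ : ∃ b, b = a + ev K b0 t := ⟨_, rfl⟩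
      have hbb : G.phi b b = G.phi a a + t * t * G.phi b0 b0 := by
        rw [hb, norm_add S G, phi_ev S.hK (G.klin a), hab, phi_ev_left S G,
          phi_ev S.hK (G.klin b0)]
        ring
      have hba : G.phi a b = G.phi a a := by
        rw [hb, map_add, phi_ev S.hK (G.klin a), hab, mul_zero, add_zero]
      obtain ⟨ga, ga1, ga2, ca, hca, gax⟩ := exists_refl S G ha0
      obtain ⟨gb, gb1, gb2, cb, hcb, gbx⟩ := exists_refl S G (hbb ▸ hNb : G.phi b b ≠ 0)
      have invol : ∀ (g : GL ι F) (p : ι → F) (cp : K), cp * G.phi p p = 2 →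
          (∀ y, (g : Matrix ι ι F) *ᵥ y = y - ev K p (cp * G.phi p y)) →
          ∀ y, ((g⁻¹ : GL ι F) : Matrix ι ι F) *ᵥ y = (g : Matrix ι ι F) *ᵥ y := by
        intro g p cp hcp hg y
        refine mulVec_injective g ?_
        show (g : Matrix ι ι F) *ᵥ _ = (g : Matrix ι ι F) *ᵥ _
        rw [mulVec_inv_mulVec, hg y, hg (y - _), map_sub, phi_ev S.hK (G.klin p)]
        rw [show cp * (G.phi p y - cp * G.phi p y * G.phi p p) = -(cp * G.phi p y) by
          linear_combination (-(cp * G.phi p y)) * hcp, map_neg]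
        abel
      have hfixv : ∀ (g : GL ι F) (p : ι → F) (cp : K), G.phi v p = 0 → G.phi v' p = 0 →
          (∀ y, (g : Matrix ι ι F) *ᵥ y = y - ev K p (cp * G.phi p y)) →
          (∀ y, G.phi v ((g : Matrix ι ι F) *ᵥ y) = G.phi v y) ∧
          (∀ y, G.phi v' ((g : Matrix ι ι F) *ᵥ y) = G.phi v' y) ∧
          ∀ y, G.phi p y = 0 → (g : Matrix ι ι F) *ᵥ y = y := by
        intro g p cp h1' h2' hg
        refine ⟨fun y => ?_, fun y => ?_, fun y hy => by rw [hg, hy, mul_zero, map_zero, sub_zero]⟩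
        · rw [hg, map_sub, phi_ev S.hK (G.klin v), h1', mul_zero, sub_zero]
        · rw [hg, map_sub, phi_ev S.hK (G.klin v'), h2', mul_zero, sub_zero]
      have hbv : G.phi v b = 0 := by
        rw [hb, map_add, a1, phi_ev S.hK (G.klin v), b1, mul_zero, add_zero]
      have hbv' : G.phi v' b = 0 := by
        rw [hb, map_add, a2, phi_ev S.hK (G.klin v'), b2, mul_zero, add_zero]
      obtain ⟨fa1, fa2, fa3⟩ := hfixv ga a ca a1 a2 gax
      obtain ⟨fb1, fb2, fb3⟩ := hfixv gb b cb hbv hbv' gbx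
      set e := ⁅ga, gb⁆ with he
      have hee : ∀ y, (e : Matrix ι ι F) *ᵥ y = (ga : Matrix ι ι F) *ᵥ ((gb : Matrix ι ι F) *ᵥ
          ((ga : Matrix ι ι F) *ᵥ ((gb : Matrix ι ι F) *ᵥ y))) := fun y => by
        rw [he, commutatorElement_def, Units.val_mul, Units.val_mul, Units.val_mul,
          ← mulVec_mulVec, ← mulVec_mulVec, ← mulVec_mulVec, invol gb b cb hcb gbx,
          invol ga a ca hca gax]
      have heH : e ∈ H := S.comm_mem ga gb ga1 ga2 gb1 gb2
      have hfix : ∀ y, G.phi a y = 0 → G.phi b y = 0 → (e : Matrix ι ι F) *ᵥ y = y :=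
        fun y h1' h2' => by rw [hee, fb3 y h2', fa3 y h1', fb3 y h2', fa3 y h1']
      have hlv : ∀ p, G.phi v p = 0 → G.phi v' p = 0 → G.phi p l = 0 := fun p h1' h2' => by
        have h4 : G.phi v' p = (G.phi v l)⁻¹ * G.phi l p -
            (2 : K)⁻¹ * G.phi l l * (G.phi v l)⁻¹ * (G.phi v l)⁻¹ * G.phi v p := by
          rw [hv', phi_sub S G, phi_ev_left S G, phi_ev_left S G]
        rw [h1', h2', mul_zero, sub_zero] at h4
        rw [phi_symm S G]
        exact (mul_eq_zero.mp h4.symm).resolve_left (inv_ne_zero hd)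
      have hefix : ∀ y ∈ L, (e : Matrix ι ι F) *ᵥ y = y := by
        rintro _ ⟨μ, rfl⟩
        exact hfix _ (by rw [phi_ev S.hK (G.klin a), phi_symm S G a v, a1, mul_zero])
          (by rw [phi_ev S.hK (G.klin b), phi_symm S G b v, hbv, mul_zero])
      have hex := claimA h0 hh0 hne0 le_rfl e heH hefix l hl hlL (by
        rw [hfix l (hlv a a1 a2) (hlv b hbv hbv')]; exact hl) x hx
      -- so `x` is fixed
      have hxe : (e : Matrix ι ι F) *ᵥ x = x := by
        have h4 : G.phi v ((e : Matrix ι ι F) *ᵥ x - x) = 0 := by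
          rw [map_sub, hee, fa1, fb1, fa1, fb1, sub_self]
        have h5 : (e : Matrix ι ι F) *ᵥ x - x ∈ L := by
          by_contra h6
          exact hI _ (sub_mem hex hx) h6 h4
        obtain ⟨μ, hμ⟩ := h5
        have h7 : G.phi v' ((e : Matrix ι ι F) *ᵥ x - x) = 0 := by
          rw [map_sub, hee, fa2, fb2, fa2, fb2, sub_self]
        rw [← hμ, phi_ev S.hK (G.klin v'), phi_symm S G v' v, e2, mul_one] at h7
        rw [h7, map_zero] at hμ
        exact sub_eq_zero.mp hμ.symm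
      have hcomm : (ga : Matrix ι ι F) *ᵥ ((gb : Matrix ι ι F) *ᵥ x) =
          (gb : Matrix ι ι F) *ᵥ ((ga : Matrix ι ι F) *ᵥ x) := by
        have hia := invol ga a ca hca gax
        have hib := invol gb b cb hcb gbx
        rw [hee] at hxe
        have h9 := congrArg (fun y => ((gb⁻¹ : GL ι F) : Matrix ι ι F) *ᵥ
          (((ga⁻¹ : GL ι F) : Matrix ι ι F) *ᵥ y)) hxe
        simp only [inv_mulVec_mulVec] at h9
        rw [hia, hib] at h9
        exact h9
      rw [gbx x, gax x, gax, gbx, map_sub, map_sub, phi_ev S.hK (G.klin a),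
        phi_ev S.hK (G.klin b), phi_symm S G b a, hba] at hcomm
      have h10 := congrArg (G.phi b0) hcomm
      simp only [map_sub, phi_ev S.hK (G.klin b0), phi_symm S G b0 a, hab, mul_zero, sub_zero] at h10
      have hb0b : G.phi b0 b = t * G.phi b0 b0 := by
        rw [hb, map_add, phi_symm S G b0 a, hab, phi_ev S.hK (G.klin b0), zero_add]
      rw [hb0b] at h10
      have hcb0 : cb ≠ 0 := left_ne_zero_of_mul (hcb.symm ▸ twoK S)
      have hca0 : ca ≠ 0 := left_ne_zero_of_mul (hca.symm ▸ twoK S)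
      have h11 : cb * (ca * G.phi a x * G.phi a a) * (t * G.phi b0 b0) = 0 := by
        linear_combination -h10
      simp [hcb0, hca0, hax, ha0, ht, hb0] at h11
    have hperp : ∀ w, G.phi v w = 0 → G.phi v' w = 0 → ∀ x ∈ T, G.phi w x = 0 := by
      intro w w1 w2 x hx
      by_cases hw : G.phi w w ≠ 0
      · exact hrot w w1 w2 hw x hx
      push Not at hw
      obtain ⟨a, a1, a2, ha⟩ := exists_aniso_perp S G (by omega) hv e1 e2
      have h1' := hrot a a1 a2 ha x hx
      by_cases hp : G.phi (w + a) (w + a) ≠ 0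
      · have := hrot (w + a) (by rw [map_add, w1, a1, add_zero])
          (by rw [map_add, w2, a2, add_zero]) hp x hx
        rwa [phi_add S G, h1', add_zero] at this
      push Not at hp
      have hm : G.phi (w - a) (w - a) ≠ 0 := by
        intro hm
        refine mul_ne_zero (twoK S) ha ?_
        rw [norm_add S G, hw] at hp
        rw [phi_sub S G, map_sub, map_sub, hw, phi_symm S G a w] at hm
        linear_combination hp + hm
      have := hrot (w - a) (by rw [map_sub, w1, a1, sub_zero]) (by rw [map_sub, w2, a2, sub_zero])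
        hm x hx
      rwa [phi_sub S G, h1', sub_zero] at this
    obtain ⟨c, hc0, hcT⟩ := hexc T hposA
    obtain ⟨w, w1, w2, hw⟩ := exists_norm_eq S G hn hv e1 e2 (c * (G.phi v l)⁻¹)
    obtain ⟨e, he, -, hex⟩ := inH_siegel S G hv w1
    have hel : (e : Matrix ι ι F) *ᵥ l =
        l + ev K w (G.phi v l) - (2 : F)⁻¹ • ev K v c := by
      rw [hex, siegel, hperp w w1 w2 l hl, map_zero, sub_zero, hw, mul_assoc,
        inv_mul_cancel₀ hd, mul_one]
    have hnot : (e : Matrix ι ι F) *ᵥ l ∉ T := by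
      intro hmem
      rw [hel] at hmem
      have h3 : ev K w (G.phi v l) ∈ T := by
        have := add_mem (sub_mem hmem hl) (T.smul_mem (2 : F)⁻¹ hcT)
        convert this using 1
        abel
      have h4 := hperp w w1 w2 _ h3
      rw [phi_ev S.hK (G.klin w), hw] at h4
      field_simp at h4
      exact hc0 h4
    have hnewne : lineImg K (h0⁻¹ * e * h0) v ≠ L := fun heq => hnot (by
      obtain ⟨μ, hμ⟩ := mem_lineImg.mp hl
      have : ((h0⁻¹ * e * h0 : GL ι F) : Matrix ι ι F) *ᵥ ev K v μ ∈ L :=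
        heq ▸ mem_lineImg.mpr ⟨μ, rfl⟩
      rw [Units.val_mul, Units.val_mul, ← mulVec_mulVec, ← mulVec_mulVec, hμ] at this
      obtain ⟨ν, hν⟩ := this
      exact mem_lineImg.mpr ⟨ν, by rw [hν, mulVec_inv_mulVec]⟩)
    refine ⟨h0⁻¹ * e * h0, mul_mem (mul_mem (inv_mem hh0) he) hh0, hnewne, ?_,
      ((h0⁻¹ : GL ι F) : Matrix ι ι F) *ᵥ ((e : Matrix ι ι F) *ᵥ l), ?_, ?_, ?_⟩
    · refine le_trans (finrank_map_gl h0⁻¹ (L ⊓ T)).ge (Submodule.finrank_mono ?_)
      rintro _ ⟨y, ⟨hyL, hyT⟩, rfl⟩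
      obtain ⟨μ, hμ⟩ := mem_lineImg.mp hyT
      refine ⟨inv_mem_kline hyT, mem_lineImg.mpr ⟨μ, ?_⟩⟩
      show _ = ((h0⁻¹ : GL ι F) : Matrix ι ι F) *ᵥ y
      obtain ⟨ν, rfl⟩ := hyL
      rw [Units.val_mul, Units.val_mul, ← mulVec_mulVec, ← mulVec_mulVec, hμ, hex, siegel,
        phi_ev S.hK (G.klin v), hv, phi_ev S.hK (G.klin w), phi_symm S G w v, w1]
      simp
    · obtain ⟨μ, hμ⟩ := mem_lineImg.mp hl
      exact mem_lineImg.mpr ⟨μ, by
        rw [Units.val_mul, Units.val_mul, ← mulVec_mulVec, ← mulVec_mulVec, hμ]⟩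
    · rintro ⟨μ, hμ⟩
      exact hnot (mem_lineImg.mpr ⟨μ, by rw [hμ, mulVec_inv_mulVec]⟩)
    · refine G.sep _ fun k => ?_
      rw [G.spec, S.sa k k.2, ← ev_apply]
      have h3 := fun z hz => form_lineImg S G hh0 hv hl (y := z) hz
      obtain ⟨z, hz, hzk⟩ : ∃ z ∈ T, ((h0⁻¹ : GL ι F) : Matrix ι ι F) *ᵥ z = ev K v k :=
        ⟨(h0 : Matrix ι ι F) *ᵥ ev K v k, mem_lineImg.mpr ⟨k, rfl⟩, inv_mulVec_mulVec _ _⟩
      rw [S.symm, ← hzk, isom_form S (inv_mem hh0), hel, sub_eq_add_neg, S.bil.add_right,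
        S.bil.add_right, S.symm z l, h3 z hz, form_neg_right S.bil, S.bil.smul_right,
        form_lineImg S G hh0 hv hz hcT, mul_zero, neg_zero, add_zero, zero_add,
        spec_right S G, hperp w w1 w2 z hz, mul_zero, map_zero]
  set L' := lineImg K h v with hL'
  obtain ⟨c, hc0, hcL⟩ := hexc L' (hposA.trans_le hge)
  have step : ∀ w, G.phi v w = 0 → ev K v (G.phi w l) ∈ L' → ∀ x ∈ L',
      ev K w (G.phi v x) - ev K v (G.phi w x) -
        (2 : F)⁻¹ • ev K v (G.phi w w * G.phi v x) ∈ L' := by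
    intro w hvw hwl x hx
    obtain ⟨e, he, -, hex⟩ := inH_siegel S G hv hvw
    have hwv : G.phi w v = 0 := by rw [phi_symm S G, hvw]
    have hfix : ∀ y ∈ L, (e : Matrix ι ι F) *ᵥ y = y := by
      rintro _ ⟨μ, rfl⟩
      rw [hex, siegel, phi_ev S.hK (G.klin v), phi_ev S.hK (G.klin w), hv, hwv]
      simp
    have h2 := claimA h hh hne hge e he hfix l hl hlL (by
      rw [hex, siegel, hφl, mul_zero, map_zero, map_zero, smul_zero, add_zero, sub_zero]
      exact sub_mem hl hwl) x hx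
    rw [hex, siegel] at h2
    have := sub_mem h2 hx
    convert this using 1
    abel
  have hzero : ∀ x ∈ L', G.phi v x = 0 := by
    intro x hx
    by_contra hx0
    set W := LinearMap.ker (G.phi v) ⊓ LinearMap.ker (G.phi l) with hW
    have hle' : W ≤ L ⊔ L' := by
      rintro y ⟨hy1, hy2⟩
      have hy1' : G.phi v y = 0 := hy1
      have hy2' : G.phi y l = 0 := by rw [phi_symm S G]; exact hy2
      set w := ev K y (G.phi v x)⁻¹ with hw
      have h3 := step w (by rw [hw, phi_ev S.hK (G.klin v), hy1', mul_zero])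
        (by rw [hw, phi_ev_left S G, hy2', mul_zero, map_zero]; exact zero_mem _) x hx
      have h4 : ev K w (G.phi v x) ∈ L ⊔ L' := by
        rw [← sub_add_cancel (ev K w (G.phi v x)) (ev K v (G.phi w x) +
          (2 : F)⁻¹ • ev K v (G.phi w w * G.phi v x)), ← sub_sub]
        exact add_mem (Submodule.mem_sup_right h3) (Submodule.mem_sup_left
          (add_mem ⟨_, rfl⟩ (Submodule.smul_mem _ _ ⟨_, rfl⟩)))
      rwa [hw, ev_apply _ (G.phi v x), ← ev_mul, mul_inv_cancel₀ hx0, ev_one] at h4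
    have h2 := Submodule.finrank_mono hle'
    have h3 := Submodule.finrank_sup_add_finrank_inf_eq L L'
    have h4 := finrank_ker_ge S (G.phi v)
    have h5 := finrank_ker_inf_ge S (LinearMap.ker (G.phi v)) (G.phi l)
    rw [← hW] at h5
    rw [hL', hrk, ← hL', hL, finrank_kline S.hK hv0, ← hL] at h3
    have h6 := hposA.trans_le hge
    omega
  refine ⟨h, hh, l, c, hl, hlL, hc0, hcL, hzero, ?_⟩
  refine Sp.decomp_of_closed S.hK S.hr hv0 (hrk h) hne hc0 hcL hl hlL fun ψ hψ hψv hψl x hx => ?_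
  obtain ⟨w, hw⟩ := exists_phi_eq S G hψ
  have hvw : G.phi v w = 0 := by rw [phi_symm S G, hw, hψv]
  have := step w hvw (by rw [hw]; exact hψl) x hx
  rw [hzero x hx, mul_zero, map_zero, map_zero, smul_zero, sub_zero, zero_sub, neg_mem_iff, hw] at this
  exact this

end Cfsg.Agent.ExtFieldMax.Orth
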