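import Cfsg.Agent.ExtFieldMax.Orth.Three.RankTwo
import Mathlib.LinearAlgebra.Dimension.Free

/-!
Maximality of the normalisers of self-adjoint fields in orthogonal groups of odd characteristic
(helper98).
-/

set_option autoImplicit false

namespace Cfsg.Agent.ExtFieldMax.Orth

open Matrix Cfsg.Agent.MaxSub
open Cfsg.Agent.UnitaryOrthogonal (eich eich_apply eichGroup eich_mem_eichGroup)
open scoped commutatorElement

variable {ι : Type} [Fintype ι] [DecidableEq ι] {F : Type*} [Field F] [Finite F]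
variable {K : Subalgebra F (Matrix ι ι F)} {r : ℕ}

omit [Finite F] in
/-- The degree divides the dimension. -/
theorem dvd_card (hK : Geo.IsFieldSubalgebra r K) (hr : r.Prime) : r ∣ Fintype.card ι := by
  letI : Field K := (isField_of hK hr.one_lt.le).toField
  letI : Module K (ι → F) := kModule K
  have e : IsScalarTower F K (ι → F) := IsScalarTower.of_algebraMap_smul fun c x => by
    show (algebraMap F (Matrix ι ι F) c) *ᵥ x = c • x
    rw [Algebra.algebraMap_eq_smul_one, smul_mulVec, one_mulVec]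
  refine ⟨Module.finrank K (ι → F), ?_⟩
  rw [← Module.finrank_fintype_fun_eq_card F (η := ι), ← hK.finrank_eq]
  exact (@Module.finrank_mul_finrank F K (ι → F) _ _ _ _ _ _ e _ _ _ _).symm

variable {f : (ι → F) → (ι → F) → F} {H : Subgroup (GL ι F)}

/-- A space of dimension at least `4 r` has an isotropic vector. -/
theorem exists_isotropic (S : Setting f K r H) (G : Sp.KForm f K)
    (hn : 3 * r ≤ Fintype.card ι) : ∃ v, v ≠ 0 ∧ G.phi v v = 0 := by
  classical
  letI : Field K := (isField_of S.hK S.one_le).toField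
  haveI : Module.Finite F K :=
    Module.finite_of_finrank_pos (by rw [S.hK.finrank_eq]; exact S.hr.pos)
  haveI : Finite K := Module.finite_of_finite F
  letI : Fintype K := Fintype.ofFinite K
  have hr := S.hr.two_le
  have htop : Module.finrank F (⊤ : Submodule F (ι → F)) = Fintype.card ι := by
    rw [finrank_top, Module.finrank_fintype_fun_eq_card]
  obtain ⟨a, -, ha⟩ := exists_aniso_mem S G (X := ⊤) (by omega)
  obtain ⟨b, hab', hb⟩ := exists_aniso_mem S G (X := LinearMap.ker (G.phi a)) (by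
    have := finrank_ker_ge S (G.phi a)
    omega)
  have hab : G.phi a b = 0 := hab'
  obtain ⟨c, ⟨hac', hbc'⟩, hc0⟩ := Submodule.exists_mem_ne_zero_of_ne_bot
    (p := LinearMap.ker (G.phi a) ⊓ LinearMap.ker (G.phi b)) (fun h0 => by
      have h1 := finrank_ker_ge S (G.phi a)
      have h2 := finrank_ker_inf_ge S (LinearMap.ker (G.phi a)) (G.phi b)
      rw [h0, finrank_bot] at h2
      omega)
  have hac : G.phi a c = 0 := hac'
  have hbc : G.phi b c = 0 := hbc'
  by_cases hc : G.phi c c = 0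
  · exact ⟨c, hc0, hc⟩
  have hodd : Fintype.card K % 2 = 1 :=
    FiniteField.odd_card_of_char_ne_two fun h2 => twoK S (by
      haveI : CharP K (ringChar K) := ringChar.charP K
      have := CharP.cast_eq_zero K (ringChar K)
      rw [h2] at this
      exact_mod_cast this)
  obtain ⟨s, t, hst⟩ := FiniteField.exists_root_sum_quadratic
    (f := Polynomial.C (G.phi a a) * Polynomial.X ^ 2)
    (g := Polynomial.C (G.phi b b) * Polynomial.X ^ 2 - Polynomial.C (-G.phi c c))
    (by rw [Polynomial.degree_C_mul_X_pow _ ha]; rfl)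
    (by
      rw [Polynomial.degree_sub_eq_left_of_degree_lt] <;> rw [Polynomial.degree_C_mul_X_pow _ hb]
      · rfl
      · exact lt_of_le_of_lt Polynomial.degree_C_le (by decide))
    hodd
  simp only [Polynomial.eval_sub, Polynomial.eval_mul, Polynomial.eval_C, Polynomial.eval_pow,
    Polynomial.eval_X] at hst
  refine ⟨c + ev K a s + ev K b t, fun h0 => hc ?_, ?_⟩
  · have h1 := congrArg (G.phi c) h0
    rwa [map_add, map_add, phi_ev S.hK (G.klin c), phi_ev S.hK (G.klin c), phi_symm S G c a, hac,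
      phi_symm S G c b, hbc, mul_zero, mul_zero, add_zero, add_zero, map_zero] at h1
  · rw [norm_add S G, norm_add S G, phi_add S G, phi_ev_left S G, phi_ev_left S G,
      phi_ev S.hK (G.klin _), phi_ev S.hK (G.klin _), phi_ev S.hK (G.klin _),
      phi_ev S.hK (G.klin _), phi_ev_left S G, phi_ev S.hK (G.klin b), phi_symm S G c a, hac, phi_symm S G c b, hbc, hab]
    linear_combination hst

/-- Maximality, from dimension three over the field on. -/
theorem isMaximalIn_orth_tri {Qf : QuadraticForm F (ι → F)} (hnd : UnitaryOrthogonal.PolarND Qf)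
    (h2 : (2 : F) ≠ 0) (hK : Geo.IsFieldSubalgebra r K) (hr : r.Prime)
    (hsa : Geo.IsSelfAdjointFor (QuadraticMap.polar ⇑Qf) K) (hn : 3 * r ≤ Fintype.card ι)
    (hsmall : Fintype.card ι < 4 * r → 3 ≤ r)
    (h6 : r = 2 → 4 * r < Fintype.card ι) :
    Geo.IsMaximalIn (Geo.omegaGL ⇑Qf) (Geo.subalgebraNormalizer K ⊓ Geo.omegaGL ⇑Qf) := by
  classical
  have h5 : 5 ≤ Module.finrank F (ι → F) := by
    rw [Module.finrank_fintype_fun_eq_card]; have := hr.two_le; omega
  have hbil : Geo.IsBilinearForm (QuadraticMap.polar ⇑Qf) :=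
    ⟨fun x y z => QuadraticMap.polar_add_left Qf x y z,
      fun c x y => by rw [QuadraticMap.polar_smul_left, smul_eq_mul],
      fun x y z => QuadraticMap.polar_add_right Qf x y z,
      fun c x y => by rw [QuadraticMap.polar_smul_right, smul_eq_mul]⟩
  have hiso : ∀ g ∈ Geo.omegaGL ⇑Qf, g ∈ isom (QuadraticMap.polar ⇑Qf) := by
    rintro _ ⟨g₀, -, rfl⟩ u v
    show QuadraticMap.polar Qf ((g₀.1 : Matrix ι ι F) *ᵥ u) ((g₀.1 : Matrix ι ι F) *ᵥ v) = _
    exact UnitaryOrthogonal.map_polar (OrthStab.toOrth g₀) u v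
  have hsetting : ∀ M : Subgroup (GL ι F),
      Geo.subalgebraNormalizer K ⊓ Geo.omegaGL ⇑Qf ≤ M → M ≤ Geo.omegaGL ⇑Qf →
      Setting (QuadraticMap.polar ⇑Qf) K r M := by
    intro M hle hMΩ
    refine ⟨hK, hr, hbil, fun x y => QuadraticMap.polar_comm Qf x y, fun x hx => hnd x hx, hsa, h2,
      fun a b ha hac hb hbc => hle ⟨mem_normalizer_of_comm
        ((hac.mul hbc).mul hac.inv |>.mul hbc.inv), ?_⟩, fun g hg => hiso g (hMΩ hg)⟩
    have hQ : ∀ g : GL ι F, g ∈ isom (QuadraticMap.polar ⇑Qf) →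
        g ∈ Cfsg.isometryGroup F ⇑Qf := fun g hg u _ => by
      show Qf ((g : Matrix ι ι F) *ᵥ u) = Qf u
      have h1 := UnitaryOrthogonal.polar_self_eq (Q := Qf) ((g : Matrix ι ι F) *ᵥ u)
      have h0 : QuadraticMap.polar (⇑Qf) ((g : Matrix ι ι F) *ᵥ u) ((g : Matrix ι ι F) *ᵥ u) =
          QuadraticMap.polar (⇑Qf) u u := hg u u
      rw [h0, UnitaryOrthogonal.polar_self_eq] at h1
      exact (mul_left_cancel₀ h2 h1).symm
    exact ⟨⁅(⟨a, hQ a ha⟩ : Cfsg.isometryGroup F ⇑Qf), ⟨b, hQ b hb⟩⁆,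
      Subgroup.commutator_mem_commutator (Subgroup.mem_top _) (Subgroup.mem_top _),
      by simp [commutatorElement_def]⟩
  refine isMaximalIn_of inf_le_right ?_ fun M hle hMΩ g hg hgH => ?_
  · -- a root element outside
    have S := hsetting _ inf_le_right le_rfl
    obtain ⟨G⟩ := exists_kForm hbil hK hr
    letI : Field K := (isField_of hK hr.one_lt.le).toField
    obtain ⟨v, hv0, hv⟩ := exists_isotropic S G (by omega)
    obtain ⟨ω, hω⟩ : ∃ ω : K, ∀ s : F, ω ≠ s • 1 := by
      by_contra hc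
      push Not at hc
      have h1 : Module.finrank F K ≤ 1 := finrank_le_one 1 fun k => by
        obtain ⟨s, hs⟩ := hc k
        exact ⟨s, hs.symm⟩
      rw [hK.finrank_eq] at h1
      have := hr.two_le
      omega
    obtain ⟨g₀, hg₀, hgeq⟩ := OrthStab.exists_lift hnd h5
      (eich_mem_eichGroup (Q := Qf) (ev K v 1) (ev K v ω))
    refine ⟨g₀.1, hg₀, fun hmem => ?_⟩
    have hpol : ∀ a b : K, QuadraticMap.polar Qf (ev K v a) (ev K v b) = 0 := fun a b =>
      polar_line S G a b hv
    have hact : ∀ x, (g₀.1 : Matrix ι ι F) *ᵥ x =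
        x + ev K v (skewMap G.theta 1 ω (G.phi v x)) := fun x => by
      have e : ∀ c : K, QuadraticMap.polar Qf (ev K v c) x = G.theta (c * G.phi v x) := fun c => by
        rw [S.symm]; exact spec_right S G v c x
      rw [show (g₀.1 : Matrix ι ι F) *ᵥ x = (eich Qf (ev K v 1) (ev K v ω)).1 x by
        rw [← hgeq]; rfl, eich_apply (form_line S G 1 hv) (hpol 1 ω), e, e, form_line S G ω hv,
        skewMap_apply, map_sub, map_smul, map_smul, zero_mul, zero_smul, sub_zero, add_sub_assoc]
    set ψ := skewMap G.theta 1 ω with hψ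
    -- it commutes with the field
    obtain ⟨x, hx, hx0⟩ := Submodule.exists_mem_ne_zero_of_ne_bot
      (p := LinearMap.ker (G.phi v)) (fun h0 => by
        have h1 := finrank_ker_ge S (G.phi v)
        rw [h0, finrank_bot] at h1
        have := hr.two_le
        omega)
    have hx' : G.phi v x = 0 := hx
    have hcomm : ∀ (k : K) y, ψ (k * y) = k * ψ y := by
      intro k y
      have hk' := (hmem.1 (k : Matrix ι ι F)).mp k.2
      obtain ⟨k', hk'eq⟩ : ∃ k' : K, (k' : Matrix ι ι F) = (g₀.1 : Matrix ι ι F) * k *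
          ((g₀.1⁻¹ : GL ι F) : Matrix ι ι F) := ⟨⟨_, hk'⟩, rfl⟩
      have hc : ∀ y, (g₀.1 : Matrix ι ι F) *ᵥ ((k : Matrix ι ι F) *ᵥ y) =
          (k' : Matrix ι ι F) *ᵥ ((g₀.1 : Matrix ι ι F) *ᵥ y) := fun y => by
        rw [hk'eq, ← mulVec_mulVec _ (_ * _), inv_mulVec_mulVec, mulVec_mulVec]
      have hkk : k' = k := by
        have h1 := hc x
        rw [hact, hact, G.klin, hx', mul_zero, map_zero, map_zero, add_zero, add_zero] at h1
        exact ev_injective hK hx0 h1.symm
      obtain ⟨z, hz⟩ : ∃ z, G.phi v z = y := by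
        obtain ⟨v', -, hvv'⟩ := exists_partner S G hv hv0
        exact ⟨ev K v' y, by rw [phi_ev hK (G.klin v), hvv', mul_one]⟩
      have h1 := hc z
      rw [hkk, hact, hact, G.klin, hz, mulVec_add, add_right_inj, ← ev_mul] at h1
      exact ev_injective hK hv0 h1
    obtain ⟨c, hc⟩ : ∃ c, c = ψ 1 := ⟨_, rfl⟩
    have hψc : ∀ y, ψ y = y * c := fun y => by
      have := hcomm y 1
      rwa [mul_one, ← hc] at this
    have hskew : ∀ a b, G.theta (a * ψ b) = -G.theta (b * ψ a) := fun a b => by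
      simp only [hψ, skewMap_apply, mul_sub, map_sub, mul_smul_comm, map_smul, smul_eq_mul,
        mul_one, one_mul, mul_comm a ω, mul_comm b ω]
      ring
    have hc0 : c = 0 := G.sep _ fun k => by
      have h3 := hskew k 1
      rw [hψc, hψc, one_mul, one_mul] at h3
      have : (2 : F) * G.theta (k * c) = 0 := by linear_combination h3
      exact (mul_eq_zero.mp this).resolve_left h2
    obtain ⟨y, hy⟩ : ∃ y, G.theta y ≠ 0 := by
      by_contra hc'
      push Not at hc'
      exact one_ne_zero (G.sep (1 : K) fun k => hc' _)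
    refine hω (G.theta (ω * y) / G.theta y) ?_
    have h3 := hψc y
    rw [hc0, mul_zero, hψ, skewMap_apply, one_mul, sub_eq_zero] at h3
    rw [div_eq_inv_mul, ← smul_smul, ← h3, smul_smul, inv_mul_cancel₀ hy, one_smul]
  · -- overgroups
    have S := hsetting M hle hMΩ
    obtain ⟨G⟩ := exists_kForm hbil hK hr
    obtain ⟨v, hv0, hv⟩ := exists_isotropic S G (by omega)
    have hn' : ∃ g ∈ M, ∃ (x : ι → F), G.phi x x = 0 ∧ ∃ k : K,
        (g : Matrix ι ι F) *ᵥ ((k : Matrix ι ι F) *ᵥ x) ∉ kline K ((g : Matrix ι ι F) *ᵥ x) := by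
      by_contra hc
      push Not at hc
      exact hgH ⟨mem_normalizer_of_isotropic_lines S G (by omega) hv hv0 hc hg, hMΩ hg⟩
    let M' : Subgroup (UnitaryOrthogonal.orth Qf) :=
      (M.comap (Cfsg.isometryGroup F ⇑Qf).subtype).map
        (UnitaryOrthogonal.isometryGroupEquiv Qf (f := ⇑Qf) (fun _ => rfl)).toMonoidHom
    have hM' : ∀ g ∈ M, ∃ g' ∈ M', ∀ x, g'.1 x = (g : Matrix ι ι F) *ᵥ x := by
      intro g hg
      obtain ⟨g₀, hg₀, rfl⟩ := hMΩ hg
      exact ⟨OrthStab.toOrth g₀, ⟨g₀, hg, rfl⟩, fun x => rfl⟩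
    have hgen : UnitaryOrthogonal.eichGroup Qf ≤ M' := by
      rcases Nat.lt_or_ge (Fintype.card ι) (4 * r) with hlt | hge
      · have hcard : Fintype.card ι = 3 * r := by
          obtain ⟨d, hd⟩ := dvd_card hK hr
          have hr2 := hr.two_le
          have h3 : 3 ≤ d := by
            by_contra hc
            nlinarith
          have h4 : d < 4 := by
            by_contra hc
            nlinarith
          obtain rfl : d = 3 := by omega
          rw [hd, mul_comm]
        have hdet : ∀ g ∈ M, (g : Matrix ι ι F).det = 1 := by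
          intro g hg
          obtain ⟨g₀, hg₀, rfl⟩ := hMΩ hg
          have := Abelianization.commutator_subset_ker
            (Matrix.GeneralLinearGroup.det.comp (Cfsg.isometryGroup F ⇑Qf).subtype) hg₀
          simpa using congrArg Units.val (MonoidHom.mem_ker.mp this)
        have D : Three.Dim3 (QuadraticMap.polar ⇑Qf) K r M := ⟨S, hcard, hsmall hlt, hdet⟩
        have hr3 := hsmall hlt
        exact eichGroup_le_of_full S G hM' hnd h5 hv hv0 fun x hx hx0 =>
          full_of_three S G hM' (fun u hu p q => Three.root_mem3 D G hu hn' p q) (by omega) hx hx0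
      · exact eichGroup_le S G hM' hge hn' hnd h5 h6
    rintro _ ⟨g₁, hg₁, rfl⟩
    obtain ⟨g₂, hg₂, hgg⟩ := hgen ((OrthStab.mem_omega_iff hnd h5 g₁).mp hg₁)
    exact ((UnitaryOrthogonal.isometryGroupEquiv Qf (f := ⇑Qf) (fun _ => rfl)).injective hgg) ▸ hg₂

/-- Maximality, from dimension three over the field on, with degree at least five below four times the degree. -/
theorem isMaximalIn_orth_three {Qf : QuadraticForm F (ι → F)} (hnd : UnitaryOrthogonal.PolarND Qf)
    (h2 : (2 : F) ≠ 0) (hK : Geo.IsFieldSubalgebra r K) (hr : r.Prime)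
    (hsa : Geo.IsSelfAdjointFor (QuadraticMap.polar ⇑Qf) K) (hn : 3 * r ≤ Fintype.card ι)
    (hsmall : Fintype.card ι < 4 * r → 5 ≤ r)
    (h6 : r = 2 → 4 * r < Fintype.card ι) :
    Geo.IsMaximalIn (Geo.omegaGL ⇑Qf) (Geo.subalgebraNormalizer K ⊓ Geo.omegaGL ⇑Qf) :=
  isMaximalIn_orth_tri hnd h2 hK hr hsa hn (fun h => le_trans (by decide) (hsmall h)) h6

/-- Maximality. -/
theorem isMaximalIn_orth {Qf : QuadraticForm F (ι → F)} (hnd : UnitaryOrthogonal.PolarND Qf)
    (h2 : (2 : F) ≠ 0) (hK : Geo.IsFieldSubalgebra r K) (hr : r.Prime)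
    (hsa : Geo.IsSelfAdjointFor (QuadraticMap.polar ⇑Qf) K) (hn : 4 * r ≤ Fintype.card ι)
    (h6 : r = 2 → 4 * r < Fintype.card ι) :
    Geo.IsMaximalIn (Geo.omegaGL ⇑Qf) (Geo.subalgebraNormalizer K ⊓ Geo.omegaGL ⇑Qf) :=
  isMaximalIn_orth_tri hnd h2 hK hr hsa (by omega) (by omega) h6

end Cfsg.Agent.ExtFieldMax.Orth
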