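import Mathlib.LinearAlgebra.Dual.Lemmas
import Mathlib.RingTheory.Norm.Basic
import Mathlib.RingTheory.Adjoin.Basic
import Mathlib.LinearAlgebra.FreeModule.PID
import Mathlib.NumberTheory.LegendreSymbol.QuadraticChar.Basic
import Mathlib.FieldTheory.Finite.Basic
import Mathlib.Tactic

/-!
Skew maps of a finite field of odd characteristic moved by the squares of its multiplicative group
(helper98).
-/

set_option autoImplicit false

namespace Cfsg.Agent.ExtFieldMax.Orth

variable {F E : Type*} [Field F] [Finite F] [Field E] [Algebra F E] [FiniteDimensional F E]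

/-- The map `y ↦ θ(p y) q - θ(q y) p`. -/
def skewMap {F E : Type*} [Field F] [Ring E] [Algebra F E] (θ : E →ₗ[F] F) (p q : E) :
    E →ₗ[F] E :=
  (θ ∘ₗ LinearMap.mulLeft F p).smulRight q - (θ ∘ₗ LinearMap.mulLeft F q).smulRight p

theorem skewMap_apply {F E : Type*} [Field F] [Ring E] [Algebra F E] (θ : E →ₗ[F] F) (p q y : E) :
    skewMap θ p q y = θ (p * y) • q - θ (q * y) • p := rfl

/-- In odd degree every element is a scalar times a square. -/
theorem exists_smul_sq (h2 : (2 : F) ≠ 0) (hodd : Odd (Module.finrank F E)) {x : E} (hx : x ≠ 0) :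
    ∃ (t : F) (e : E), e ≠ 0 ∧ x = t • (e * e) := by
  classical
  haveI : Finite E := Module.finite_of_finite F
  letI : Fintype E := Fintype.ofFinite E
  haveI : Fintype F := Fintype.ofFinite F
  by_cases hsq : IsSquare x
  · obtain ⟨e, rfl⟩ := hsq
    exact ⟨1, e, left_ne_zero_of_mul hx, (one_smul _ _).symm⟩
  have hF : ringChar F ≠ 2 := fun h => h2 (by
    have := CharP.cast_eq_zero F (ringChar F)
    rw [h] at this
    exact_mod_cast this)
  obtain ⟨t, ht⟩ := FiniteField.exists_nonsquare hF
  have ht0 : t ≠ 0 := fun h => ht (h ▸ IsSquare.zero)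
  have htE : ¬ IsSquare (algebraMap F E t) := by
    rintro ⟨y, hy⟩
    obtain ⟨j, hj⟩ := hodd
    have h1 := congrArg (Algebra.norm F) hy
    rw [Algebra.norm_algebraMap, map_mul, hj] at h1
    refine ht ⟨Algebra.norm F y / t ^ j, ?_⟩
    field_simp
    linear_combination h1
  have hE : quadraticChar E (x * algebraMap F E t) = 1 := by
    rw [map_mul, quadraticChar_neg_one_iff_not_isSquare.mpr hsq,
      quadraticChar_neg_one_iff_not_isSquare.mpr htE]
    norm_num
  have hne : x * algebraMap F E t ≠ 0 := mul_ne_zero hx ((map_ne_zero _).mpr ht0)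
  obtain ⟨e, he⟩ := (quadraticChar_one_iff_isSquare hne).mp hE
  refine ⟨t⁻¹, e, left_ne_zero_of_mul (he ▸ hne), ?_⟩
  rw [← he, Algebra.smul_def, map_inv₀]
  field_simp [(map_ne_zero (algebraMap F E)).mpr ht0]

/-- The maps closed under `ψ ↦ e ∘ ψ ∘ e` for squares `e` generated by one skew pair contain all
pairs. -/
theorem skewMap_mem (hp : (Module.finrank F E).Prime) (h2 : (2 : F) ≠ 0) (θ : E →ₗ[F] F)
    {M : AddSubgroup (E →ₗ[F] E)}
    (hM : ∀ (e : E), e ≠ 0 → ∀ ψ ∈ M,
      LinearMap.mulLeft F (e * e) ∘ₗ ψ ∘ₗ LinearMap.mulLeft F (e * e) ∈ M)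
    {κ b : E} (hκ : κ ≠ 0) (hb : ∀ s : F, b ≠ s • κ) (h : ∀ s : F, s • skewMap θ κ b ∈ M)
    (p q : E) : skewMap θ p q ∈ M := by
  let M' : Submodule F (E →ₗ[F] E) :=
    { carrier := {ψ | ∀ s : F, s • ψ ∈ M}
      add_mem' := fun {a b} ha hb' s => by rw [smul_add]; exact add_mem (ha s) (hb' s)
      zero_mem' := fun s => by rw [smul_zero]; exact zero_mem M
      smul_mem' := fun c a ha s => by rw [smul_smul]; exact ha _ }
  suffices hmem : skewMap θ p q ∈ M' by simpa using hmem 1
  by_contra hout
  obtain ⟨χ, hχ, hχM⟩ := Submodule.exists_dual_map_eq_bot_of_notMem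
    (p := M') hout inferInstance
  have hχ0 : ∀ ψ ∈ M', χ ψ = 0 := fun ψ hψ => (Submodule.eq_bot_iff _).mp hχM _ ⟨ψ, hψ, rfl⟩
  have haddl : ∀ x y z, χ (skewMap θ (x + y) z) = χ (skewMap θ x z) + χ (skewMap θ y z) := by
    intro x y z
    rw [← map_add]
    congr 1
    refine LinearMap.ext fun u => ?_
    simp only [skewMap_apply, LinearMap.add_apply, add_mul, map_add, add_smul, smul_add]
    module
  have hsmull : ∀ (s : F) x y, χ (skewMap θ (s • x) y) = s * χ (skewMap θ x y) := by
    intro s x y
    rw [← smul_eq_mul, ← map_smul]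
    congr 1
    refine LinearMap.ext fun u => ?_
    simp only [skewMap_apply, LinearMap.smul_apply, smul_mul_assoc, map_smul]
    module
  have hswap : ∀ x y, χ (skewMap θ x y) = -χ (skewMap θ y x) := fun x y => by
    rw [← map_neg]; congr 1
    exact LinearMap.ext fun u => by
      simp only [skewMap_apply, LinearMap.neg_apply, neg_sub]
  have haddr : ∀ x y z, χ (skewMap θ x (y + z)) = χ (skewMap θ x y) + χ (skewMap θ x z) :=
    fun x y z => by rw [hswap x, haddl, neg_add, ← hswap, ← hswap]
  have hsmulr : ∀ (s : F) x y, χ (skewMap θ x (s • y)) = s * χ (skewMap θ x y) :=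
    fun s x y => by rw [hswap x, hsmull, hswap x y, mul_neg]
  have halt : ∀ y, χ (skewMap θ y y) = 0 := fun y => by
    rw [skewMap, sub_self, map_zero]
  have hκb : χ (skewMap θ κ b) = 0 := hχ0 _ h
  refine hχ ?_
  rcases Nat.lt_or_ge (Module.finrank F E) 3 with hlt | hge
  · -- degree two
    have hr2 : Module.finrank F E = 2 := le_antisymm (by omega) hp.two_le
    have hli : LinearIndependent F ![κ, b] :=
      (LinearIndependent.pair_iff' hκ).mpr fun s hs => hb s hs.symm
    have htop : Submodule.span F (Set.range ![κ, b]) = ⊤ := by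
      refine Submodule.eq_top_of_finrank_eq ?_
      rw [finrank_span_eq_card hli, hr2]; simp
    have hdec : ∀ x : E, ∃ a c : F, x = a • κ + c • b := fun x => by
      obtain ⟨g, hg⟩ := (Submodule.mem_span_range_iff_exists_fun F).mp
        (htop ▸ Submodule.mem_top : x ∈ Submodule.span F (Set.range ![κ, b]))
      exact ⟨g 0, g 1, by rw [← hg, Fin.sum_univ_two]; rfl⟩
    obtain ⟨a, c, rfl⟩ := hdec p
    obtain ⟨a', c', rfl⟩ := hdec q
    simp only [haddl, haddr, hsmull, hsmulr, halt, hκb, hswap b κ, mul_zero, add_zero, neg_zero]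
  · have hodd : Odd (Module.finrank F E) :=
      hp.eq_two_or_odd'.resolve_left (by omega)
    set a := b / κ with ha
    have hmove : ∀ y, χ (skewMap θ y (a * y)) = 0 := by
      intro y
      rcases eq_or_ne y 0 with rfl | hy
      · rw [mul_zero, halt]
      refine hχ0 _ fun s => ?_
      obtain ⟨t, e, he, hx⟩ := exists_smul_sq h2 hodd (div_ne_zero hy hκ)
      convert hM e he _ (h (s * t * t)) using 1
      refine LinearMap.ext fun u => ?_
      have hyu : ∀ w : E, θ (w * (e * e * u)) * t = θ (w * (y / κ) * u) := fun w => by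
        rw [hx, mul_comm _ t, ← smul_eq_mul, ← map_smul]
        congr 1
        simp only [Algebra.smul_def]; ring
      simp only [skewMap_apply, LinearMap.smul_apply, LinearMap.comp_apply,
        LinearMap.mulLeft_apply]
      simp only [Algebra.smul_def]
      have e1 := hyu κ
      have e2 := hyu b
      rw [show κ * (y / κ) = y by field_simp] at e1
      rw [show b * (y / κ) = a * y by rw [ha]; ring] at e2
      rw [← e1, ← e2]
      simp only [map_mul (algebraMap F E)]
      have hy' : y = κ * (algebraMap F E t * (e * e)) := by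
        rw [← Algebra.smul_def, ← hx]; field_simp
      rw [ha, hy']
      field_simp
    let C : Subalgebra F E :=
      { carrier := {c | ∀ y z, χ (skewMap θ (c * y) z) = χ (skewMap θ y (c * z))}
        mul_mem' := fun {c d} hc hd y z => by
          rw [mul_assoc, hc, hd, mul_assoc, ← mul_assoc d, mul_comm d c, mul_assoc]
        one_mem' := fun y z => by rw [one_mul, one_mul]
        add_mem' := fun {c d} hc hd y z => by rw [add_mul, add_mul, haddl, haddr, hc, hd]
        zero_mem' := fun y z => by
          rw [zero_mul, zero_mul, ← zero_smul F (0 : E), hsmull, hsmulr, zero_mul, zero_mul]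
        algebraMap_mem' := fun s y z => by
          rw [← Algebra.smul_def, ← Algebra.smul_def, hsmull, hsmulr] }
    have haC : a ∈ C := fun y z => by
      have h1 := hmove (y + z)
      rw [mul_add, haddl, haddr, haddr, hmove, hmove, zero_add, add_zero, hswap z] at h1
      linear_combination -h1
    haveI := Subalgebra.isSimpleOrder_of_finrank_prime F E hp
    have hC : C = ⊤ := (IsSimpleOrder.eq_bot_or_eq_top C).resolve_left fun hb' => by
      rw [hb', Algebra.mem_bot] at haC
      obtain ⟨s, hs⟩ := haC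
      refine hb s ?_
      rw [Algebra.smul_def, hs, ha, div_mul_cancel₀ _ hκ]
    have hpC : p ∈ C := hC ▸ Algebra.mem_top
    have hqC : q ∈ C := hC ▸ Algebra.mem_top
    have e1 := hpC 1 q
    have e2 := hqC 1 p
    rw [mul_one] at e1 e2
    rw [mul_comm q p, ← e1, hswap q p] at e2
    have h4 : (2 : F) * χ (skewMap θ p q) = 0 := by linear_combination -e2
    exact (mul_eq_zero.mp h4).resolve_left h2

end Cfsg.Agent.ExtFieldMax.Orth
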