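import Cfsg.Agent.ExtFieldMax.Orth.Intersect
import Cfsg.Agent.ExtFieldMax.Orth.Span

/-!
Root elements on isotropic lines in a group moving the lines over the field (helper98).
-/

set_option autoImplicit false

namespace Cfsg.Agent.ExtFieldMax.Orth

open Matrix Cfsg.Agent.MaxSub
open scoped commutatorElement

variable {ι : Type} [Fintype ι] [DecidableEq ι] {F : Type*} [Field F] [Finite F]
variable {f : (ι → F) → (ι → F) → F} {K : Subalgebra F (Matrix ι ι F)} {r : ℕ}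
variable {H : Subgroup (GL ι F)} (S : Setting f K r H) (G : Sp.KForm f K)
include S

omit [Finite F] in
/-- The orthogonal of the orthogonal of an isotropic line. -/
theorem mem_kline_of_perp {v : ι → F} (hv : G.phi v v = 0) (hv0 : v ≠ 0) {x : ι → F}
    (h : ∀ u, G.phi v u = 0 → G.phi x u = 0) : x ∈ kline K v := by
  letI : Field K := (isField_of S.hK S.one_le).toField
  obtain ⟨v', hv', hvv'⟩ := exists_partner S G hv hv0
  refine ⟨G.phi x v', (sub_eq_zero.mp (phi_eq_zero S G (v := x - ev K v (G.phi x v'))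
    fun t => ?_)).symm⟩
  obtain ⟨t', h1, -, -, ht⟩ := exists_proj S G hv hv' hvv' t
  rw [phi_sub S G, phi_ev_left S G, ht, map_add, map_add, map_add, map_add, h t' h1, h1,
    phi_ev S.hK (G.klin x), phi_ev S.hK (G.klin x), phi_ev S.hK (G.klin v),
    phi_ev S.hK (G.klin v), h v hv, hv, hvv']
  ring

omit [Finite F] in
theorem theta_phi (x y : ι → F) : G.theta (G.phi y x) = f x y := Sp.phi_one G y x

/-- The maps giving root elements on a line. -/
def rootMaps (H : Subgroup (GL ι F)) {v : ι → F} (hv : G.phi v v = 0) :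
    AddSubgroup (K →ₗ[F] K) where
  carrier := {ψ | ∃ g ∈ H, ∀ x, (g : Matrix ι ι F) *ᵥ x = x + ev K v (ψ (G.phi v x))}
  zero_mem' := ⟨1, one_mem H, fun x => by simp⟩
  add_mem' := by
    rintro a b ⟨g, hg, hgx⟩ ⟨g', hg', hgx'⟩
    refine ⟨g * g', mul_mem hg hg', fun x => ?_⟩
    rw [Units.val_mul, ← mulVec_mulVec, hgx', hgx, map_add (G.phi v), phi_ev S.hK (G.klin v), hv,
      mul_zero, add_zero, LinearMap.add_apply, map_add]
    abel
  neg_mem' := by
    rintro a ⟨g, hg, hgx⟩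
    refine ⟨g⁻¹, inv_mem hg, fun x => mulVec_injective g ?_⟩
    show (g : Matrix ι ι F) *ᵥ _ = (g : Matrix ι ι F) *ᵥ _
    rw [mulVec_inv_mulVec, hgx, map_add (G.phi v), phi_ev S.hK (G.klin v), hv, mul_zero, add_zero,
      LinearMap.neg_apply, map_neg]
    abel

variable (hn : 4 * r ≤ Fintype.card ι)
include hn

/-- A skew pair of root maps. -/
theorem exists_root_pair {v : ι → F} (hv : G.phi v v = 0) (hv0 : v ≠ 0)
    (hn' : ∃ g ∈ H, ∃ (x : ι → F), G.phi x x = 0 ∧ ∃ k : K,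
      (g : Matrix ι ι F) *ᵥ ((k : Matrix ι ι F) *ᵥ x) ∉ kline K ((g : Matrix ι ι F) *ᵥ x)) :
    ∃ κ b : K, κ ≠ 0 ∧ (∀ s : F, b ≠ s • κ) ∧
      ∀ s : F, s • skewMap G.theta κ b ∈ rootMaps S G H hv := by
  letI : Field K := (isField_of S.hK S.one_le).toField
  haveI : Module.Finite F K :=
    Module.finite_of_finrank_pos (by rw [S.hK.finrank_eq]; exact S.hr.pos)
  obtain ⟨h, hh, l, c, hl, hlL, -, -, hLv, hdec⟩ := exists_orth_image S G hn hv hv0 hn'
  set L := kline K v with hL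
  set L' := lineImg K h v with hL'
  obtain ⟨m, hmL, hmL'⟩ : ∃ m ∈ L, m ∉ L' := by
    by_contra hc
    push Not at hc
    have := Submodule.eq_of_le_of_finrank_eq hc
      (by rw [hL', finrank_lineImg S.hK h hv0, hL, finrank_kline S.hK hv0])
    exact hlL (this ▸ hl)
  have hcomp : ∀ k : K, ∃ a : F, ev K v k - a • m ∈ L' := by
    intro k
    have h1 : L' ≤ (L ⊓ L') ⊔ Submodule.span F {l} := fun x hx => by
      obtain ⟨a, ha⟩ := hdec x hx
      rw [← sub_add_cancel x (a • l)]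
      exact Submodule.add_mem_sup ⟨ha, sub_mem hx (L'.smul_mem a hl)⟩
        (Submodule.smul_mem _ a (Submodule.mem_span_singleton_self l))
    have hl0 : l ≠ 0 := fun h0 => hlL (h0 ▸ zero_mem L)
    have hm0 : m ≠ 0 := fun h0 => hmL' (h0 ▸ zero_mem L')
    have h2 := Submodule.finrank_mono h1
    have h3 := Submodule.finrank_add_le_finrank_add_finrank (L ⊓ L') (Submodule.span F {l})
    rw [finrank_span_singleton hl0] at h3
    rw [hL', finrank_lineImg S.hK h hv0, ← hL'] at h2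
    have h4 : (L ⊓ L') ⊔ Submodule.span F {m} = L := by
      refine Submodule.eq_of_le_of_finrank_le (sup_le inf_le_left
        ((Submodule.span_singleton_le_iff_mem _ _).mpr hmL)) ?_
      have h5 := Submodule.finrank_sup_add_finrank_inf_eq (L ⊓ L') (Submodule.span F {m})
      have h6 : (L ⊓ L') ⊓ Submodule.span F {m} = ⊥ := (Submodule.eq_bot_iff _).mpr fun x hx => by
        obtain ⟨a, rfl⟩ := Submodule.mem_span_singleton.mp hx.2
        by_cases ha : a = 0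
        · rw [ha, zero_smul]
        · exact absurd ((Submodule.smul_mem_iff L' ha).mp hx.1.2) hmL'
      rw [h6, finrank_bot, finrank_span_singleton hm0] at h5
      rw [hL, finrank_kline S.hK hv0, ← hL]
      omega
    have hk : ev K v k ∈ (L ⊓ L') ⊔ Submodule.span F {m} := h4.symm ▸ ⟨k, rfl⟩
    obtain ⟨y, hy, z, hz, he⟩ := Submodule.mem_sup.mp hk
    obtain ⟨a, rfl⟩ := Submodule.mem_span_singleton.mp hz
    exact ⟨a, by rw [← he, add_sub_cancel_right]; exact hy.2⟩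
  obtain ⟨m', hm'⟩ : ∃ m', (h : Matrix ι ι F) *ᵥ m' = m := ⟨_, mulVec_inv_mulVec h m⟩
  have hm'L : m' ∉ L := by
    rintro ⟨μ, rfl⟩
    exact hmL' (mem_lineImg.mpr ⟨μ, hm'⟩)
  have hfperp : ∀ u, G.phi v u = 0 → ∀ x ∈ L, f u x = 0 := by
    rintro u hu _ ⟨μ, rfl⟩
    rw [spec_right S G, hu, mul_zero, map_zero]
  -- the coefficient of `m`
  obtain ⟨u0, hu0, hu01⟩ : ∃ u0, G.phi v u0 = 0 ∧ f u0 m' = 1 := by
    obtain ⟨u, hu, hum⟩ : ∃ u, G.phi v u = 0 ∧ f u m' ≠ 0 := by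
      by_contra hc
      push Not at hc
      refine hm'L (mem_kline_of_perp S G hv hv0 fun u hu => G.sep _ fun k => ?_)
      rw [G.spec]
      exact hc ((k : Matrix ι ι F) *ᵥ u) (by rw [G.klin, hu, mul_zero])
    exact ⟨(f u m')⁻¹ • u, by rw [map_smul, hu, smul_zero],
      by rw [S.bil.smul_left, inv_mul_cancel₀ hum]⟩
  obtain ⟨ν, hν⟩ : ∃ ν, ν = G.phi v ((h : Matrix ι ι F) *ᵥ u0) := ⟨_, rfl⟩
  have hphi : ∀ u, G.phi v u = 0 → G.phi v ((h : Matrix ι ι F) *ᵥ u) = f u m' • ν := by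
    intro u hu
    suffices hw : G.phi v ((h : Matrix ι ι F) *ᵥ (u - f u m' • u0)) = 0 by
      rwa [mulVec_sub, mulVec_smul, map_sub, map_smul, ← hν, sub_eq_zero] at hw
    refine G.sep _ fun k => ?_
    rw [← spec_right S G]
    obtain ⟨a, ha⟩ := hcomp k
    obtain ⟨μ, hμ⟩ := mem_lineImg.mp ha
    rw [← sub_add_cancel (ev K v k) (a • m), ← hμ, S.bil.add_right, isom_form S hh,
      hfperp _ (by rw [map_sub, map_smul, hu, hu0, smul_zero, sub_zero]) _ ⟨μ, rfl⟩, zero_add,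
      S.bil.smul_right, ← hm', isom_form S hh, form_sub_left S.bil,
      S.bil.smul_left, hu01, mul_one, sub_self, mul_zero]
  have hcoef : ∀ k : K, ev K v k - G.theta (k * ν) • m ∈ L' := by
    intro k
    obtain ⟨a, ha⟩ := hcomp k
    obtain ⟨μ, hμ⟩ := mem_lineImg.mp ha
    suffices hka : G.theta (k * ν) = a by rwa [hka]
    rw [hν, ← spec_right S G, ← sub_add_cancel (ev K v k) (a • m), ← hμ, S.bil.add_right,
      isom_form S hh, hfperp u0 hu0 _ ⟨μ, rfl⟩, zero_add, S.bil.smul_right, ← hm', isom_form S hh,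
      hu01, mul_one]
  obtain ⟨μm, hμm⟩ := hmL
  have hν0 : ν ≠ 0 := fun h0 => hmL' (by
    have := hcoef μm
    rwa [h0, mul_zero, map_zero, zero_smul, sub_zero, hμm] at this)
  have hhinv : ∀ x ∈ L', ((h⁻¹ : GL ι F) : Matrix ι ι F) *ᵥ x ∈ L := fun x hx => inv_mem_kline hx
  have hPy : ∀ y, G.phi v y = 0 → G.phi l y = 0 → ∀ x ∈ L', G.phi y x = 0 := by
    intro y hy1 hy2 x hx
    obtain ⟨a, μ, hμ⟩ := hdec x hx
    have e : x = ev K v μ + a • l := by rw [hμ, sub_add_cancel]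
    rw [e, map_add, map_smul, phi_ev S.hK (G.klin y), phi_symm S G y v, hy1, phi_symm S G y l, hy2,
      mul_zero, smul_zero, add_zero]
  have hWm : G.phi v m' = 0 := G.sep _ fun k => by
    rw [← spec_right S G, ← isom_form S hh, hm', ← hμm, ← theta_phi S G, phi_ev S.hK (G.klin _),
      phi_symm S G, hLv _ (mem_lineImg.mpr ⟨k, rfl⟩), mul_zero, map_zero]
  have hmm : f m' m' = 0 := by
    rw [← isom_form S hh, hm', ← hμm, spec_right S G, phi_ev S.hK (G.klin v), hv, mul_zero,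
      mul_zero, map_zero]
  have hzW : ∀ y, G.phi v y = 0 → G.phi l y = 0 →
      G.phi v (((h⁻¹ : GL ι F) : Matrix ι ι F) *ᵥ y) = 0 := fun y hy1 hy2 => G.sep _ fun k => by
    rw [← spec_right S G, ← isom_form S hh, mulVec_inv_mulVec, ← theta_phi S G,
      phi_symm S G, hPy y hy1 hy2 _ (mem_lineImg.mpr ⟨k, rfl⟩), map_zero]
  have hzm : ∀ y, G.phi v y = 0 → f (((h⁻¹ : GL ι F) : Matrix ι ι F) *ᵥ y) m' = 0 := fun y hy1 => by
    rw [← isom_form S hh, mulVec_inv_mulVec, hm', ← hμm, spec_right S G, hy1, mul_zero, map_zero]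
  -- the conjugated root elements
  have hg : ∀ y, G.phi v y = 0 → G.phi l y = 0 → ∃ g ∈ H,
      (∀ x ∈ L, (g : Matrix ι ι F) *ᵥ x = x) ∧ ∀ u, G.phi v u = 0 →
        (g : Matrix ι ι F) *ᵥ u - (u + f u m' • (((h⁻¹ : GL ι F) : Matrix ι ι F) *ᵥ y) -
          (f u (((h⁻¹ : GL ι F) : Matrix ι ι F) *ᵥ y) + (2 : F)⁻¹ * f u m' *
            f (((h⁻¹ : GL ι F) : Matrix ι ι F) *ᵥ y) (((h⁻¹ : GL ι F) : Matrix ι ι F) *ᵥ y)) •
              m') ∈ L := by
    intro y hy1 hy2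
    obtain ⟨δ, hδ⟩ : ∃ δ, δ = ev K y ν⁻¹ := ⟨_, rfl⟩
    have hvδ : G.phi v δ = 0 := by rw [hδ, phi_ev S.hK (G.klin v), hy1, mul_zero]
    obtain ⟨e, he, -, hex⟩ := inH_siegel S G hv hvδ
    refine ⟨h⁻¹ * e * h, mul_mem (mul_mem (inv_mem hh) he) hh, fun x hx => ?_, fun u hu => ?_⟩
    · obtain ⟨μ, rfl⟩ := hx
      have hx' : (h : Matrix ι ι F) *ᵥ ev K v μ ∈ L' := mem_lineImg.mpr ⟨μ, rfl⟩
      rw [Units.val_mul, Units.val_mul, ← mulVec_mulVec, ← mulVec_mulVec, hex, siegel, hLv _ hx',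
        hδ, phi_ev_left S G _ ν⁻¹ ((h : Matrix ι ι F) *ᵥ _), hPy y hy1 hy2 _ hx', mul_zero,
        map_zero, map_zero, mul_zero, map_zero, smul_zero, add_zero, sub_zero, sub_zero,
        inv_mulVec_mulVec]
    · obtain ⟨z, hz⟩ : ∃ z, z = ((h⁻¹ : GL ι F) : Matrix ι ι F) *ᵥ y := ⟨_, rfl⟩
      have hhz : (h : Matrix ι ι F) *ᵥ z = y := by rw [hz, mulVec_inv_mulVec]
      obtain ⟨P, hP⟩ : ∃ P, P = G.phi δ ((h : Matrix ι ι F) *ᵥ u) +
          (2 : F)⁻¹ • (G.phi δ δ * (f u m' • ν)) := ⟨_, rfl⟩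
      have hehu : (e : Matrix ι ι F) *ᵥ ((h : Matrix ι ι F) *ᵥ u) =
          (h : Matrix ι ι F) *ᵥ u + f u m' • y - ev K v P := by
        rw [hex, siegel, hphi u hu, hP, map_add, map_smul (ev K v), map_smul (ev K δ),
          hδ, ev_apply (ev K y ν⁻¹) ν, ← ev_mul, mul_inv_cancel₀ hν0, ev_one]
        abel
      have hθP : G.theta (P * ν) = f u z + (2 : F)⁻¹ * f u m' * f z z := by
        rw [hP, add_mul, map_add, smul_mul_assoc, map_smul, smul_eq_mul, mul_assoc (2 : F)⁻¹]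
        congr 1
        · rw [hδ, phi_ev_left S G, mul_right_comm, inv_mul_cancel₀ hν0, one_mul, theta_phi S G,
            ← hhz, isom_form S hh]
        · congr 1
          rw [hδ, phi_ev_left S G, phi_ev S.hK (G.klin y),
            show ν⁻¹ * (ν⁻¹ * G.phi y y) * (f u m' • ν) * ν = f u m' • G.phi y y by
              simp only [Algebra.smul_def]; field_simp,
            map_smul, theta_phi S G, smul_eq_mul, ← hhz, isom_form S hh]
      rw [← hz, ← hθP, Units.val_mul, Units.val_mul, ← mulVec_mulVec, ← mulVec_mulVec, hehu,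
        mulVec_sub, mulVec_add, mulVec_smul, inv_mulVec_mulVec, ← hz]
      have := neg_mem (hhinv _ (hcoef P))
      convert this using 1
      rw [mulVec_sub, mulVec_smul, ← hm', inv_mulVec_mulVec]
      abel
  -- a vector away from the two lines
  obtain ⟨y, hy1, hy2, hyout⟩ : ∃ y, G.phi v y = 0 ∧ G.phi l y = 0 ∧
      y ∉ L ⊔ Submodule.span F {l} := by
    by_contra hc
    push Not at hc
    have h1 : LinearMap.ker (G.phi v) ⊓ LinearMap.ker (G.phi l) ≤ L ⊔ Submodule.span F {l} :=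
      fun y hy => hc y hy.1 hy.2
    have h2 := Submodule.finrank_mono h1
    have h3 := Submodule.finrank_add_le_finrank_add_finrank L (Submodule.span F {l})
    have h4 := finrank_ker_ge S (G.phi v)
    have h5 := finrank_ker_inf_ge S (LinearMap.ker (G.phi v)) (G.phi l)
    have h6 : Module.finrank F (Submodule.span F {l}) ≤ 1 := finrank_span_le_card {l} |>.trans (by simp)
    have h7 : Module.finrank F L = r := finrank_kline S.hK hv0
    have := S.hr.two_le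
    omega
  obtain ⟨z, hz⟩ : ∃ z, z = ((h⁻¹ : GL ι F) : Matrix ι ι F) *ᵥ y := ⟨_, rfl⟩
  have hL'sup : L' ≤ L ⊔ Submodule.span F {l} := fun x hx => by
    obtain ⟨a, ha⟩ := hdec x hx
    rw [← sub_add_cancel x (a • l)]
    exact Submodule.add_mem_sup ha (Submodule.smul_mem _ a (Submodule.mem_span_singleton_self l))
  have hsep : ∀ s : F, z - s • m' ∉ L := by
    rintro s ⟨μ, hμ⟩
    refine hyout ?_
    have h1 : (h : Matrix ι ι F) *ᵥ ev K v μ ∈ L' := mem_lineImg.mpr ⟨μ, rfl⟩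
    rw [hμ, mulVec_sub, mulVec_smul, hz, mulVec_inv_mulVec, hm'] at h1
    rw [← sub_add_cancel y (s • m)]
    exact add_mem (hL'sup h1)
      (Submodule.mem_sup_left (Submodule.smul_mem _ s (hμm ▸ ⟨μm, rfl⟩)))
  obtain ⟨w, hw, hp, hpq⟩ : ∃ w, G.phi v w = 0 ∧ G.phi w m' ≠ 0 ∧
      ∀ s : F, G.phi w z ≠ s • G.phi w m' := by
    by_contra hc
    push Not at hc
    obtain ⟨w0, hw0, hw01⟩ : ∃ w0, G.phi v w0 = 0 ∧ G.phi w0 m' = 1 := by
      obtain ⟨u, hu, hum⟩ : ∃ u, G.phi v u = 0 ∧ G.phi u m' ≠ 0 := by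
        by_contra hc'
        push Not at hc'
        exact hm'L (mem_kline_of_perp S G hv hv0 fun u hu => by rw [phi_symm S G, hc' u hu])
      exact ⟨ev K u (G.phi u m')⁻¹, by rw [phi_ev S.hK (G.klin v), hu, mul_zero],
        by rw [phi_ev_left S G, inv_mul_cancel₀ hum]⟩
    obtain ⟨ω, hω⟩ : ∃ ω : K, ∀ s : F, ω ≠ s • 1 := by
      by_contra hc'
      push Not at hc'
      have h1 : Module.finrank F K ≤ 1 := finrank_le_one 1 fun k => by
        obtain ⟨s, hs⟩ := hc' k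
        exact ⟨s, hs.symm⟩
      rw [S.hK.finrank_eq] at h1
      have := S.hr.two_le
      omega
    obtain ⟨s0, hs0⟩ := hc w0 hw0 (by rw [hw01]; exact one_ne_zero)
    rw [hw01] at hs0
    have hkey : ∀ w, G.phi v w = 0 → G.phi w m' = 0 → G.phi w z = 0 := by
      intro w hw hwm
      have h1 : ∀ k : K, k ≠ 0 → ∃ s : F, G.phi w z = s • k := fun k hk => by
        obtain ⟨s, hs⟩ := hc (w + ev K w0 k)
          (by rw [map_add, hw, phi_ev S.hK (G.klin v), hw0, mul_zero, add_zero])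
          (by rw [phi_add S G, hwm, phi_ev_left S G, hw01, mul_one, zero_add]; exact hk)
        rw [phi_add S G, phi_add S G, hwm, zero_add, phi_ev_left S G, phi_ev_left S G, hw01,
          hs0, mul_one, mul_smul_comm, mul_one] at hs
        exact ⟨s - s0, by rw [sub_smul, ← hs, add_sub_cancel_right]⟩
      obtain ⟨a, ha⟩ := h1 1 one_ne_zero
      obtain ⟨b, hb⟩ := h1 ω fun h0 => hω 0 (by rw [h0, zero_smul])
      rw [ha] at hb
      rcases eq_or_ne b 0 with rfl | hb0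
      · rw [ha, hb, zero_smul]
      · exact absurd (by rw [mul_comm, ← smul_smul, hb, smul_smul, inv_mul_cancel₀ hb0, one_smul])
          (hω (a * b⁻¹))
    refine hsep s0 (mem_kline_of_perp S G hv hv0 fun u hu => ?_)
    have h2 := hkey (u - ev K w0 (G.phi u m'))
      (by rw [map_sub, hu, phi_ev S.hK (G.klin v), hw0, mul_zero, sub_zero])
      (by rw [phi_sub S G, phi_ev_left S G, hw01, mul_one, sub_self])
    rw [phi_sub S G, phi_ev_left S G, hs0, mul_smul_comm, mul_one] at h2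
    rw [phi_symm S G, map_sub, map_smul, h2]
  refine ⟨_, _, hp, hpq, fun s => ?_⟩
  -- the commutator
  obtain ⟨t, ht⟩ : ∃ t : F, t = -((2 : F)⁻¹ * s) := ⟨_, rfl⟩
  obtain ⟨g, hgH, hgL, hgu⟩ := hg (t • y) (by rw [map_smul, hy1, smul_zero])
    (by rw [map_smul, hy2, smul_zero])
  simp only [mulVec_smul, ← hz] at hgu
  obtain ⟨e, he, -, hex⟩ := inH_siegel S G hv hw
  have hwv : G.phi w v = 0 := by rw [phi_symm S G, hw]
  have hgv : ∀ x, G.phi v ((g : Matrix ι ι F) *ᵥ x) = G.phi v x := fun x =>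
    Sp.phi_ext G fun k => by
      rw [← spec_right S G, ← spec_right S G]
      conv_lhs => rw [← hgL (ev K v k) ⟨k, rfl⟩, isom_form S hgH]
  have hgv' : ∀ x, G.phi v (((g⁻¹ : GL ι F) : Matrix ι ι F) *ᵥ x) = G.phi v x := fun x => by
    conv_rhs => rw [← mulVec_inv_mulVec g x, hgv]
  have hwL : ∀ x ∈ L, G.phi w x = 0 := by
    rintro _ ⟨μ, rfl⟩
    rw [phi_ev S.hK (G.klin w), hwv, mul_zero]
  have hev : ∀ x, G.phi v ((e : Matrix ι ι F) *ᵥ x) = G.phi v x := fun x => by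
    rw [hex, siegel, map_sub, map_sub, map_add, map_smul, phi_ev S.hK (G.klin v),
      phi_ev S.hK (G.klin v), phi_ev S.hK (G.klin v), hw, hv]
    simp
  have hGx : ∀ x, ((g * e * g⁻¹ : GL ι F) : Matrix ι ι F) *ᵥ x =
      x + (g : Matrix ι ι F) *ᵥ ev K w (G.phi v x) -
        ev K v (G.phi w (((g⁻¹ : GL ι F) : Matrix ι ι F) *ᵥ x)) -
        (2 : F)⁻¹ • ev K v (G.phi w w * G.phi v x) := fun x => by
    rw [Units.val_mul, Units.val_mul, ← mulVec_mulVec, ← mulVec_mulVec, hex, siegel, hgv',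
      mulVec_sub, mulVec_sub, mulVec_add, mulVec_smul, mulVec_inv_mulVec, hgL _ ⟨_, rfl⟩,
      hgL _ ⟨_, rfl⟩]
  have hfwd : ∀ u, G.phi v u = 0 → G.phi w ((g : Matrix ι ι F) *ᵥ u) =
      G.phi w u + (f u m' * t) • G.phi w z -
        (t * f u z + (2 : F)⁻¹ * f u m' * (t * (t * f z z))) • G.phi w m' := fun u hu => by
    have h1 := hwL _ (hgu u hu)
    rw [map_sub, sub_eq_zero, map_sub, map_add, map_smul, map_smul, map_smul, smul_smul,
      S.bil.smul_right, S.bil.smul_left, S.bil.smul_right] at h1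
    exact h1
  have hbwd : ∀ u, G.phi v u = 0 → G.phi w (((g⁻¹ : GL ι F) : Matrix ι ι F) *ᵥ u) =
      G.phi w u - (f u m' * t) • G.phi w z +
        (t * f u z - (2 : F)⁻¹ * f u m' * (t * (t * f z z))) • G.phi w m' := fun u hu => by
    obtain ⟨u', rfl⟩ : ∃ u', (g : Matrix ι ι F) *ᵥ u' = u := ⟨_, mulVec_inv_mulVec g u⟩
    rw [hgv] at hu
    rw [inv_mulVec_mulVec]
    obtain ⟨p, hp⟩ := hgu u' hu
    have e : (g : Matrix ι ι F) *ᵥ u' = ev K v p + (u' + f u' m' • t • z -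
        (f u' (t • z) + (2 : F)⁻¹ * f u' m' * f (t • z) (t • z)) • m') := by
      rw [hp, sub_add_cancel]
    have e1 : f ((g : Matrix ι ι F) *ᵥ u') m' = f u' m' := by
      rw [e, S.bil.add_left, form_sub_left S.bil, S.bil.add_left,
        S.bil.smul_left, S.bil.smul_left, S.bil.smul_left, hmm, hz, hzm y hy1,
        S.symm, hfperp m' hWm _ ⟨p, rfl⟩]
      ring
    have hzz : G.phi v z = 0 := hz ▸ hzW y hy1 hy2
    have e2 : f ((g : Matrix ι ι F) *ᵥ u') z = f u' z + f u' m' * (t * f z z) := by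
      rw [e, S.bil.add_left, form_sub_left S.bil, S.bil.add_left,
        S.bil.smul_left, S.bil.smul_left, S.bil.smul_left,
        show f m' z = 0 by rw [S.symm, hz]; exact hzm y hy1, S.symm (ev K v p),
        hfperp z hzz _ ⟨p, rfl⟩]
      ring
    rw [e1, e2, hfwd u' hu]
    match_scalars <;> field_simp [S.two] <;> ring
  have hψ : ∀ k : K, G.phi w (((g⁻¹ : GL ι F) : Matrix ι ι F) *ᵥ ev K w k) -
      G.phi w ((g : Matrix ι ι F) *ᵥ ev K w k) =
        (s • skewMap G.theta (G.phi w m') (G.phi w z)) k := fun k => by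
    have hwk : G.phi v (ev K w k) = 0 := by rw [phi_ev S.hK (G.klin v), hw, mul_zero]
    have ef : ∀ x, f (ev K w k) x = G.theta (G.phi w x * k) := fun x => by
      rw [ev_apply, ← G.spec, phi_symm S G x w, kmul_comm S.hK]
    rw [hbwd _ hwk, hfwd _ hwk, ef, ef, LinearMap.smul_apply, skewMap_apply, ht]
    match_scalars <;> field_simp [S.two] <;> ring
  refine ⟨e * (g * e * g⁻¹) * e⁻¹ * (g * e * g⁻¹)⁻¹,
    mul_mem (mul_mem (mul_mem he (mul_mem (mul_mem hgH he) (inv_mem hgH))) (inv_mem he))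
      (inv_mem (mul_mem (mul_mem hgH he) (inv_mem hgH))), fun x => ?_⟩
  obtain ⟨x0, rfl⟩ : ∃ x0, ((g * e * g⁻¹ : GL ι F) : Matrix ι ι F) *ᵥ
      ((e : Matrix ι ι F) *ᵥ x0) = x :=
    ⟨((e⁻¹ : GL ι F) : Matrix ι ι F) *ᵥ (((g * e * g⁻¹)⁻¹ : GL ι F) *ᵥ x : ι → F), by
      rw [mulVec_inv_mulVec, mulVec_inv_mulVec]⟩
  rw [Units.val_mul, Units.val_mul _ (e⁻¹), Units.val_mul e, ← mulVec_mulVec, ← mulVec_mulVec,
    ← mulVec_mulVec, inv_mulVec_mulVec, inv_mulVec_mulVec, hex]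
  have hGv : ∀ x, G.phi v (((g * e * g⁻¹ : GL ι F) : Matrix ι ι F) *ᵥ x) = G.phi v x := fun x => by
    rw [Units.val_mul, Units.val_mul, ← mulVec_mulVec, ← mulVec_mulVec, hgv, hev, hgv']
  have hwG : G.phi w (((g * e * g⁻¹ : GL ι F) : Matrix ι ι F) *ᵥ x0) =
      G.phi w x0 + G.phi w ((g : Matrix ι ι F) *ᵥ ev K w (G.phi v x0)) := by
    rw [hGx, map_sub, map_sub, map_add, map_smul, hwL _ ⟨_, rfl⟩, hwL _ ⟨_, rfl⟩]
    simp
  have hwe : G.phi w (((g⁻¹ : GL ι F) : Matrix ι ι F) *ᵥ ((e : Matrix ι ι F) *ᵥ x0)) =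
      G.phi w (((g⁻¹ : GL ι F) : Matrix ι ι F) *ᵥ x0) +
        G.phi w (((g⁻¹ : GL ι F) : Matrix ι ι F) *ᵥ ev K w (G.phi v x0)) := by
    have hinv : ∀ q ∈ L, ((g⁻¹ : GL ι F) : Matrix ι ι F) *ᵥ q = q := fun q hq => by
      conv_lhs => rw [← hgL q hq, inv_mulVec_mulVec]
    rw [hex, siegel, mulVec_sub, mulVec_sub, mulVec_add, mulVec_smul, hinv _ ⟨_, rfl⟩,
      hinv _ ⟨_, rfl⟩, map_sub, map_sub, map_add, map_smul, hwL _ ⟨_, rfl⟩, hwL _ ⟨_, rfl⟩]
    simp
  rw [hGv, hev, siegel, hGv, hwG, hGx, hGx, hev, hwe, ← hψ, hex, siegel]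
  simp only [map_add, map_sub]
  abel

/-- All skew root maps. -/
theorem root_mem {v : ι → F} (hv : G.phi v v = 0)
    (hn' : ∃ g ∈ H, ∃ (x : ι → F), G.phi x x = 0 ∧ ∃ k : K,
      (g : Matrix ι ι F) *ᵥ ((k : Matrix ι ι F) *ᵥ x) ∉ kline K ((g : Matrix ι ι F) *ᵥ x))
    (p q : K) : ∃ g ∈ H, ∀ x, (g : Matrix ι ι F) *ᵥ x =
      x + ev K v (skewMap G.theta p q (G.phi v x)) := by
  rcases eq_or_ne v 0 with rfl | hv0
  · exact ⟨1, one_mem H, fun x => by simp⟩
  letI : Field K := (isField_of S.hK S.one_le).toField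
  haveI : Module.Finite F K :=
    Module.finite_of_finrank_pos (by rw [S.hK.finrank_eq]; exact S.hr.pos)
  obtain ⟨κ, b, hκ, hb, hpair⟩ := exists_root_pair S G hn hv hv0 hn'
  refine skewMap_mem (S.hK.finrank_eq.symm ▸ S.hr) S.two G.theta (M := rootMaps S G H hv) ?_ hκ hb
    hpair p q
  rintro e he ψ ⟨t, ht, htx⟩
  obtain ⟨v', hv', hvv'⟩ := exists_partner S G hv hv0
  obtain ⟨d, hd, hdc, hdv⟩ := exists_scale S G hv hv' hvv' he
  refine ⟨d * t * d⁻¹, mul_mem (mul_mem hd ht) (inv_mem hd), fun x => ?_⟩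
  obtain ⟨x0, rfl⟩ : ∃ x0, (d : Matrix ι ι F) *ᵥ x0 = x := ⟨_, mulVec_inv_mulVec d x⟩
  have hφ : G.phi v x0 = e * e * G.phi v ((d : Matrix ι ι F) *ᵥ x0) := by
    rw [← phi_ev_left S G, ← hdv]
    refine Sp.phi_ext G fun k => ?_
    rw [← spec_right S G, ← spec_right S G, ev_apply, ev_apply, ← hdc, isom_form S hd]
  rw [Units.val_mul, Units.val_mul, ← mulVec_mulVec, ← mulVec_mulVec, inv_mulVec_mulVec, htx,
    mulVec_add, hφ, ev_apply v, hdc, hdv, ← ev_mul]
  simp only [LinearMap.comp_apply, LinearMap.mulLeft_apply]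
  rw [kmul_comm S.hK (ψ _)]

end Cfsg.Agent.ExtFieldMax.Orth
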