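import Cfsg.Agent.ExtFieldMax.Orth.Form
import Mathlib.FieldTheory.Finite.Basic

/-!
Hyperbolic pairs, perpendicular vectors, transitivity on isotropic lines and the normaliser
criterion (helper98).
-/

set_option autoImplicit false

namespace Cfsg.Agent.ExtFieldMax.Orth

open Matrix Cfsg.Agent.MaxSub
open scoped commutatorElement

variable {ι : Type} [Fintype ι] [DecidableEq ι] {F : Type*} [Field F] [Finite F]
variable {f : (ι → F) → (ι → F) → F} {K : Subalgebra F (Matrix ι ι F)} {r : ℕ}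
variable {H : Subgroup (GL ι F)} (S : Setting f K r H) (G : Sp.KForm f K)
include S

omit [Finite F] in
theorem finrank_ker_ge (ψ : (ι → F) →ₗ[F] K) :
    Fintype.card ι ≤ Module.finrank F (LinearMap.ker ψ) + r := by
  haveI : Module.Finite F K :=
    Module.finite_of_finrank_pos (by rw [S.hK.finrank_eq]; exact S.hr.pos)
  have h2 := LinearMap.finrank_range_add_finrank_ker ψ
  have h3 := (LinearMap.range ψ).finrank_le
  rw [S.hK.finrank_eq] at h3
  rw [Module.finrank_fintype_fun_eq_card] at h2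
  omega

omit [Finite F] in
theorem finrank_ker_inf_ge (P : Submodule F (ι → F)) (ψ : (ι → F) →ₗ[F] K) :
    Module.finrank F P ≤ Module.finrank F ↥(P ⊓ LinearMap.ker ψ) + r := by
  have h1 := finrank_ker_ge S ψ
  have h2 := Submodule.finrank_sup_add_finrank_inf_eq P (LinearMap.ker ψ)
  have h3 := (P ⊔ LinearMap.ker ψ).finrank_le
  rw [Module.finrank_fintype_fun_eq_card] at h3
  omega

omit [Finite F] in
theorem norm_add (a b : ι → F) :
    G.phi (a + b) (a + b) = G.phi a a + 2 * G.phi a b + G.phi b b := by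
  letI : Field K := (isField_of S.hK S.one_le).toField
  rw [phi_add S G, map_add, map_add, phi_symm S G b a]
  ring

omit [Finite F] in
theorem exists_aniso {X : Submodule F (ι → F)} {y x : ι → F} (hy : y ∈ X) (hx : x ∈ X)
    (h : G.phi y x ≠ 0) : ∃ a ∈ X, G.phi a a ≠ 0 := by
  letI : Field K := (isField_of S.hK S.one_le).toField
  by_contra hc
  push Not at hc
  have := norm_add S G y x
  rw [hc y hy, hc x hx, hc _ (add_mem hy hx), zero_add, add_zero, zero_eq_mul] at this
  exact h (this.resolve_left (twoK S))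

omit [Finite F] in
theorem exists_partner {v : ι → F} (hv : G.phi v v = 0) (hv0 : v ≠ 0) :
    ∃ v', G.phi v' v' = 0 ∧ G.phi v v' = 1 := by
  letI : Field K := (isField_of S.hK S.one_le).toField
  obtain ⟨y, hy⟩ : ∃ y, G.phi v y = 1 := by
    obtain ⟨x, hx⟩ : ∃ x, G.phi v x ≠ 0 := by
      by_contra hc
      push Not at hc
      exact hv0 (phi_eq_zero S G hc)
    exact ⟨ev K x (G.phi v x)⁻¹, by rw [phi_ev S.hK (G.klin v), inv_mul_cancel₀ hx]⟩
  refine ⟨y - ev K v ((2 : K)⁻¹ * G.phi y y), ?_, ?_⟩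
  · rw [phi_sub S G, map_sub, map_sub, phi_ev_left S G, phi_ev_left S G,
      phi_ev S.hK (G.klin y), phi_ev S.hK (G.klin v), hv, phi_symm S G y v, hy]
    have := twoK S
    field_simp
    ring
  · rw [map_sub, phi_ev S.hK (G.klin v), hy, hv, mul_zero, sub_zero]

omit [Finite F] in
/-- The projection away from a hyperbolic pair. -/
theorem exists_proj {v v' : ι → F} (hv : G.phi v v = 0) (hv' : G.phi v' v' = 0)
    (h : G.phi v v' = 1) (x : ι → F) :
    ∃ x', G.phi v x' = 0 ∧ G.phi v' x' = 0 ∧ (∀ y, G.phi v y = 0 → G.phi v' y = 0 →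
      G.phi y x' = G.phi y x) ∧ x = x' + ev K v (G.phi v' x) + ev K v' (G.phi v x) := by
  letI : Field K := (isField_of S.hK S.one_le).toField
  have h' : G.phi v' v = 1 := by rw [phi_symm S G, h]
  refine ⟨x - ev K v (G.phi v' x) - ev K v' (G.phi v x), ?_, ?_, fun y h1 h2 => ?_, by abel⟩
  · simp [phi_ev S.hK (G.klin v), hv, h, -ev_apply]
  · simp [phi_ev S.hK (G.klin v'), hv', h', -ev_apply]
  · simp [phi_ev S.hK (G.klin y), phi_symm S G y v, phi_symm S G y v', h1, h2, -ev_apply]

omit [Finite F] in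
theorem exists_aniso_perp (hn : 3 * r ≤ Fintype.card ι) {v v' : ι → F} (hv : G.phi v v = 0) (hv' : G.phi v' v' = 0)
    (h : G.phi v v' = 1) : ∃ a, G.phi v a = 0 ∧ G.phi v' a = 0 ∧ G.phi a a ≠ 0 := by
  obtain ⟨y, ⟨hy1, hy2⟩, hy0⟩ : ∃ y ∈ LinearMap.ker (G.phi v) ⊓ LinearMap.ker (G.phi v'),
      y ≠ 0 := Submodule.exists_mem_ne_zero_of_ne_bot fun h0 => by
    have h1 := finrank_ker_ge S (G.phi v)
    have h2 := finrank_ker_inf_ge S (LinearMap.ker (G.phi v)) (G.phi v')
    have h3 := S.hr.pos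
    rw [h0, finrank_bot] at h2
    omega
  obtain ⟨x, hx⟩ : ∃ x, G.phi y x ≠ 0 := by
    by_contra hc; push Not at hc; exact hy0 (phi_eq_zero S G hc)
  obtain ⟨x', h1, h2, h3, -⟩ := exists_proj S G hv hv' h x
  obtain ⟨a, ⟨ha1, ha2⟩, ha⟩ := exists_aniso S G
    (X := LinearMap.ker (G.phi v) ⊓ LinearMap.ker (G.phi v')) ⟨hy1, hy2⟩ (x := x') ⟨h1, h2⟩
    (by rw [h3 y hy1 hy2]; exact hx)
  exact ⟨a, ha1, ha2, ha⟩

omit [Finite F] in
theorem exists_aniso_perp_perp (hn : 4 * r ≤ Fintype.card ι) {v v' a : ι → F} (hv : G.phi v v = 0) (hv' : G.phi v' v' = 0)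
    (h : G.phi v v' = 1) (ha : G.phi a a ≠ 0) (hav : G.phi v a = 0) (hav' : G.phi v' a = 0) :
    ∃ b, G.phi v b = 0 ∧ G.phi v' b = 0 ∧ G.phi a b = 0 ∧ G.phi b b ≠ 0 := by
  letI : Field K := (isField_of S.hK S.one_le).toField
  set X := LinearMap.ker (G.phi v) ⊓ LinearMap.ker (G.phi v') ⊓ LinearMap.ker (G.phi a) with hX
  obtain ⟨y, hy, hy0⟩ : ∃ y ∈ X, y ≠ 0 := Submodule.exists_mem_ne_zero_of_ne_bot fun h0 => by
    have h1 := finrank_ker_ge S (G.phi v)
    have h2 := finrank_ker_inf_ge S (LinearMap.ker (G.phi v)) (G.phi v')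
    have h4 := finrank_ker_inf_ge S (LinearMap.ker (G.phi v) ⊓ LinearMap.ker (G.phi v')) (G.phi a)
    have h3 := S.hr.pos
    rw [← hX, h0, finrank_bot] at h4
    omega
  obtain ⟨x, hx⟩ : ∃ x, G.phi y x ≠ 0 := by
    by_contra hc; push Not at hc; exact hy0 (phi_eq_zero S G hc)
  obtain ⟨x', h1, h2, h3, -⟩ := exists_proj S G hv hv' h x
  set x'' := x' - ev K a ((G.phi a a)⁻¹ * G.phi a x') with hx''
  have hx''X : x'' ∈ X := by
    refine ⟨⟨?_, ?_⟩, ?_⟩ <;> show _ = 0
    · rw [hx'', map_sub, h1, phi_ev S.hK (G.klin v), hav, mul_zero, sub_zero]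
    · rw [hx'', map_sub, h2, phi_ev S.hK (G.klin v'), hav', mul_zero, sub_zero]
    · rw [hx'', map_sub, phi_ev S.hK (G.klin a), mul_right_comm, inv_mul_cancel₀ ha, one_mul,
        sub_self]
  obtain ⟨b, ⟨⟨hb1, hb2⟩, hb3⟩, hb⟩ := exists_aniso S G (X := X) hy hx''X (by
    rw [hx'', map_sub, h3 y hy.1.1 hy.1.2, phi_ev S.hK (G.klin y), phi_symm S G y a,
      show G.phi a y = 0 from hy.2, mul_zero, sub_zero]
    exact hx)
  exact ⟨b, hb1, hb2, hb3, hb⟩

/-- The plane orthogonal to a hyperbolic pair represents everything. -/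
theorem exists_norm_eq (hn : 4 * r ≤ Fintype.card ι) {v v' : ι → F} (hv : G.phi v v = 0) (hv' : G.phi v' v' = 0)
    (h : G.phi v v' = 1) (T : K) : ∃ w, G.phi v w = 0 ∧ G.phi v' w = 0 ∧ G.phi w w = T := by
  classical
  letI : Field K := (isField_of S.hK S.one_le).toField
  haveI : Module.Finite F K :=
    Module.finite_of_finrank_pos (by rw [S.hK.finrank_eq]; exact S.hr.pos)
  haveI : Finite K := Module.finite_of_finite F
  letI : Fintype K := Fintype.ofFinite K
  obtain ⟨a, ha1, ha2, ha⟩ := exists_aniso_perp S G (by omega) hv hv' h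
  obtain ⟨b, hb1, hb2, hab, hb⟩ := exists_aniso_perp_perp S G hn hv hv' h ha ha1 ha2
  have hodd : Fintype.card K % 2 = 1 :=
    FiniteField.odd_card_of_char_ne_two fun h2 => twoK S (by
      haveI : CharP K (ringChar K) := ringChar.charP K
      have := CharP.cast_eq_zero K (ringChar K)
      rw [h2] at this
      exact_mod_cast this)
  obtain ⟨s, t, hst⟩ := FiniteField.exists_root_sum_quadratic
    (f := Polynomial.C (G.phi a a) * Polynomial.X ^ 2)
    (g := Polynomial.C (G.phi b b) * Polynomial.X ^ 2 - Polynomial.C T)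
    (by rw [Polynomial.degree_C_mul_X_pow _ ha]; rfl)
    (by
      rw [Polynomial.degree_sub_eq_left_of_degree_lt] <;> rw [Polynomial.degree_C_mul_X_pow _ hb]
      · rfl
      · exact lt_of_le_of_lt Polynomial.degree_C_le (by decide))
    hodd
  refine ⟨ev K a s + ev K b t, ?_, ?_, ?_⟩
  · rw [map_add, phi_ev S.hK (G.klin v), phi_ev S.hK (G.klin v), ha1, hb1, mul_zero, mul_zero,
      add_zero]
  · rw [map_add, phi_ev S.hK (G.klin v'), phi_ev S.hK (G.klin v'), ha2, hb2, mul_zero, mul_zero,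
      add_zero]
  · rw [norm_add S G, phi_ev_left S G, phi_ev_left S G, phi_ev_left S G, phi_ev S.hK (G.klin a),
      phi_ev S.hK (G.klin a), phi_ev S.hK (G.klin b), hab]
    simp only [Polynomial.eval_sub, Polynomial.eval_mul, Polynomial.eval_C, Polynomial.eval_pow,
      Polynomial.eval_X] at hst
    linear_combination hst

omit [Finite F] in
theorem exists_nonorth (hn : 3 * r ≤ Fintype.card ι) {v z : ι → F} (hv : G.phi v v = 0) (hv0 : v ≠ 0) (hz0 : z ≠ 0) :
    ∃ y, G.phi y y = 0 ∧ G.phi v y ≠ 0 ∧ G.phi z y ≠ 0 := by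
  letI : Field K := (isField_of S.hK S.one_le).toField
  obtain ⟨v', hv', h⟩ := exists_partner S G hv hv0
  by_cases hzv : G.phi z v' ≠ 0
  · exact ⟨v', hv', by rw [h]; exact one_ne_zero, hzv⟩
  push Not at hzv
  by_cases hvz : G.phi v z ≠ 0
  · obtain ⟨a, ha1, ha2, ha⟩ := exists_aniso_perp S G hn hv hv' h
    -- shift by the anisotropic vector
    have key : ∀ w, G.phi v w = 0 → G.phi v' w = 0 → G.phi w w ≠ 0 →
        ∃ y, G.phi y y = 0 ∧ G.phi v y ≠ 0 ∧ G.phi z y = G.phi z w -
          ((2 : K)⁻¹ * G.phi w w) * G.phi z v := by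
      intro w h1 h2 h3
      refine ⟨v' + w - ev K v ((2 : K)⁻¹ * G.phi w w), ?_, ?_, ?_⟩
      · simp only [phi_sub S G, phi_add S G, map_sub, map_add, phi_ev_left S G,
          phi_ev S.hK (G.klin _), hv, hv', h, phi_symm S G v' v, phi_symm S G w v, phi_symm S G w v',
          h1, h2]
        have := twoK S
        field_simp
        ring
      · rw [map_sub, map_add, h, h1, phi_ev S.hK (G.klin v), hv, mul_zero, sub_zero, add_zero]
        exact one_ne_zero
      · rw [map_sub, map_add, hzv, zero_add, phi_ev S.hK (G.klin z)]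
    obtain ⟨y1, e1, e2, e3⟩ := key a ha1 ha2 ha
    by_cases hy1 : G.phi z y1 ≠ 0
    · exact ⟨y1, e1, e2, hy1⟩
    push Not at hy1
    obtain ⟨y2, f1, f2, f3⟩ := key (-a) (by rw [map_neg, ha1, neg_zero])
      (by rw [map_neg, ha2, neg_zero]) (by
        rw [map_neg, phi_symm S G, map_neg, neg_neg]; exact ha)
    refine ⟨y2, f1, f2, fun h0 => ?_⟩
    rw [h0, map_neg, map_neg, phi_symm S G (-a) a, map_neg, neg_neg] at f3
    rw [hy1] at e3
    have h3 : G.phi a a * G.phi z v = 0 := by
      have := twoK S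
      field_simp at e3 f3
      linear_combination (e3 + f3) / 2 - G.phi a a * G.phi z v * inv_mul_cancel₀ (twoK S)
    rcases mul_eq_zero.mp h3 with h4 | h4
    · exact ha h4
    · exact hvz (by rw [phi_symm S G, h4])
  · push Not at hvz
    -- `z` lies in the orthogonal of the pair
    obtain ⟨x, hx⟩ : ∃ x, G.phi z x ≠ 0 := by
      by_contra hc; push Not at hc; exact hz0 (phi_eq_zero S G hc)
    obtain ⟨x', h1, h2, h3, -⟩ := exists_proj S G hv hv' h x
    refine ⟨v' + x' - ev K v ((2 : K)⁻¹ * G.phi x' x'), ?_, ?_, ?_⟩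
    · simp only [phi_sub S G, phi_add S G, map_sub, map_add, phi_ev_left S G,
        phi_ev S.hK (G.klin _), hv, hv', h, phi_symm S G v' v, phi_symm S G x' v,
        phi_symm S G x' v', h1, h2]
      have := twoK S
      field_simp
      ring
    · rw [map_sub, map_add, h, h1, phi_ev S.hK (G.klin v), hv, mul_zero, sub_zero, add_zero]
      exact one_ne_zero
    · rw [map_sub, map_add, hzv, zero_add, phi_ev S.hK (G.klin z), phi_symm S G z v, hvz,
        mul_zero, sub_zero, h3 z hvz (by rw [phi_symm S G, hzv])]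
      exact hx

omit [Finite F] in
/-- Moving one isotropic vector to a multiple of another by two unipotent elements. -/
theorem exists_move_aux {z u w : ι → F} (hz : G.phi z z = 0) (hu : G.phi u u = 0)
    (hzu : G.phi z u ≠ 0) (hwz : G.phi z w = 0) (hwu0 : G.phi u w = 0) (hw : G.phi w w ≠ 0)
    {k : K} (hk : k * G.phi z u = -((2 : F)⁻¹ • G.phi w w)) :
    ∃ g ∈ H, Comm K g ∧ (g : Matrix ι ι F) *ᵥ z = ev K u k := by
  letI : Field K := (isField_of S.hK S.one_le).toField
  set u' := ev K u (G.phi z u)⁻¹ with hu'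
  have h1 : G.phi z u' = 1 := by
    rw [hu', phi_ev S.hK (G.klin z), inv_mul_cancel₀ hzu]
  have h2 : G.phi u' u' = 0 := by
    rw [hu', phi_ev_left S G, phi_ev S.hK (G.klin u), hu, mul_zero, mul_zero]
  have hwu : G.phi u' w = 0 := by rw [hu', phi_ev_left S G, hwu0, mul_zero]
  have hwz' : G.phi w z = 0 := by rw [phi_symm S G, hwz]
  have hwu' : G.phi w u' = 0 := by rw [phi_symm S G, hwu]
  have h1' : G.phi u' z = 1 := by rw [phi_symm S G, h1]
  obtain ⟨e1, he1, hc1, hx1⟩ := inH_siegel S G h2 hwu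
  set c : K := 2 * (G.phi w w)⁻¹ with hc
  obtain ⟨e2, he2, hc2, hx2⟩ := inH_siegel S G hz
    (w := ev K w c) (by rw [phi_ev S.hK (G.klin z), hwz, mul_zero])
  refine ⟨e2 * e1, mul_mem he2 he1, hc2.mul hc1, ?_⟩
  rw [show k = -((2 : K)⁻¹ * G.phi w w) * (G.phi z u)⁻¹ by
    rw [eq_mul_inv_iff_mul_eq₀ hzu, hk, Algebra.smul_def, map_inv₀, map_ofNat]]
  rw [ev_mul, ← hu', ← ev_apply, Units.val_mul, ← mulVec_mulVec, hx1, hx2]
  have e : ∀ (x : ι → F) (k : K), (2 : F)⁻¹ • ev K x k = ev K x ((2 : K)⁻¹ * k) := fun x k => by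
    rw [← map_smul, Algebra.smul_def, map_inv₀, map_ofNat]
  simp only [siegel, e, h1', hwz', map_sub, map_add, phi_ev S.hK (G.klin _), phi_ev_left S G,
    hz, hwz, h1, hwu', phi_symm S G z w, mul_zero, map_zero, sub_zero, add_zero, mul_one]
  have hev : ∀ a b : K, ev K (ev K w a) b = ev K w (b * a) := fun a b =>
    (ev_mul w b a).symm
  simp only [hev, ev_one]
  nth_rewrite 1 [← ev_one (K := K) z]
  nth_rewrite 1 [← ev_one (K := K) w]
  have ew : (1 : K) + (0 + -((2 : K)⁻¹ * G.phi w w)) * c = 0 := by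
    rw [hc]; have := twoK S; field_simp; ring
  have ez : (1 : K) - c * (G.phi w w) - (2 : K)⁻¹ *
      (c * (c * G.phi w w) * -((2 : K)⁻¹ * G.phi w w)) = 0 := by
    rw [hc]; have := twoK S; field_simp; ring
  have hzero : ev K w ((1 : K) + (0 + -((2 : K)⁻¹ * G.phi w w)) * c) +
      ev K z ((1 : K) - c * (G.phi w w) - (2 : K)⁻¹ *
        (c * (c * G.phi w w) * -((2 : K)⁻¹ * G.phi w w))) = 0 := by
    rw [ew, ez, map_zero, map_zero, add_zero]
  simp only [map_add, map_sub, map_neg, zero_add, zero_sub, one_mul, neg_mul, mul_neg] at hzero ⊢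
  linear_combination (norm := module) hzero

/-- Transitivity on non-orthogonal isotropic vectors. -/
theorem exists_move_to (hn : 4 * r ≤ Fintype.card ι) {z u : ι → F} (hz : G.phi z z = 0) (hu : G.phi u u = 0)
    (hzu : G.phi z u ≠ 0) {k : K} (hk : k ≠ 0) :
    ∃ g ∈ H, Comm K g ∧ (g : Matrix ι ι F) *ᵥ z = ev K u k := by
  letI : Field K := (isField_of S.hK S.one_le).toField
  set u' := ev K u (G.phi z u)⁻¹ with hu'
  have h1 : G.phi z u' = 1 := by
    rw [hu', phi_ev S.hK (G.klin z), inv_mul_cancel₀ hzu]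
  have h2 : G.phi u' u' = 0 := by
    rw [hu', phi_ev_left S G, phi_ev S.hK (G.klin u), hu, mul_zero, mul_zero]
  obtain ⟨w, hwz, hwu, hwT⟩ := exists_norm_eq S G hn hz h2 h1 (-2 * k * G.phi z u)
  refine exists_move_aux S G hz hu hzu hwz ?_
    (hwT ▸ mul_ne_zero (mul_ne_zero (neg_ne_zero.mpr (twoK S)) hk) hzu) ?_
  · rw [hu', phi_ev_left S G] at hwu
    exact (mul_eq_zero.mp hwu).resolve_left (inv_ne_zero hzu)
  · rw [hwT, Algebra.smul_def, map_inv₀, map_ofNat]
    have := twoK S
    field_simp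

/-- Transitivity on isotropic lines. -/
theorem exists_move (hn : 4 * r ≤ Fintype.card ι) {z u : ι → F} (hz : G.phi z z = 0) (hz0 : z ≠ 0) (hu : G.phi u u = 0)
    (hu0 : u ≠ 0) :
    ∃ g ∈ H, Comm K g ∧ ∃ k : K, k ≠ 0 ∧ (g : Matrix ι ι F) *ᵥ z = ev K u k := by
  letI : Field K := (isField_of S.hK S.one_le).toField
  obtain ⟨y, hy, hzy, huy⟩ := exists_nonorth S G (by omega) hz hz0 hu0
  obtain ⟨g, hg, hgc, hgz⟩ := exists_move_to S G hn hz hy hzy (k := 1) one_ne_zero
  obtain ⟨g', hg', hgc', hgy⟩ := exists_move_to S G hn hy hu (by rw [phi_symm S G]; exact huy)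
    (k := 1) one_ne_zero
  refine ⟨g' * g, mul_mem hg' hg, hgc'.mul hgc, 1, one_ne_zero, ?_⟩
  rw [Units.val_mul, ← mulVec_mulVec, hgz, ev_one, hgy]

/-- Isometries sending isotropic lines to lines normalise the field. -/
theorem mem_normalizer_of_isotropic_lines (hn : 3 * r ≤ Fintype.card ι) {v : ι → F} (hv : G.phi v v = 0) (hv0 : v ≠ 0)
    (hl : ∀ g ∈ H, ∀ x, G.phi x x = 0 → ∀ k : K,
      (g : Matrix ι ι F) *ᵥ ((k : Matrix ι ι F) *ᵥ x) ∈ kline K ((g : Matrix ι ι F) *ᵥ x))
    {g : GL ι F} (hg : g ∈ H) : g ∈ Geo.subalgebraNormalizer K := by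
  letI : Field K := (isField_of S.hK S.one_le).toField
  have key : ∀ g ∈ H, ∀ k ∈ K,
      (g : Matrix ι ι F) * k * ((g⁻¹ : GL ι F) : Matrix ι ι F) ∈ K := by
    intro g hg k hk
    set C := (g : Matrix ι ι F) * k * ((g⁻¹ : GL ι F) : Matrix ι ι F) with hC
    have hCy : ∀ y, G.phi y y = 0 → C *ᵥ y ∈ kline K y := by
      intro y hy
      set x := ((g⁻¹ : GL ι F) : Matrix ι ι F) *ᵥ y with hx
      have hxiso : G.phi x x = 0 := G.sep _ fun l => by
        rw [G.spec]
        obtain ⟨m, hm⟩ : ((g⁻¹ : GL ι F) : Matrix ι ι F) *ᵥ ev K y 0 ∈ kline K x := by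
          rw [map_zero, mulVec_zero]; exact zero_mem _
        have hle : lineImg K g⁻¹ y ≤ kline K x := by
          intro z hz
          obtain ⟨μ, rfl⟩ := mem_lineImg.mp hz
          exact hl g⁻¹ (inv_mem hg) y hy μ
        rcases eq_or_ne y 0 with hy0 | hy0
        · rw [hx, hy0, mulVec_zero]; exact form_zero_right S.bil _
        have heq := Submodule.eq_of_le_of_finrank_eq hle (by
          rw [finrank_lineImg S.hK _ hy0, finrank_kline S.hK (mulVec_ne_zero g⁻¹ hy0)])
        obtain ⟨μ, hμ⟩ := mem_lineImg.mp (heq.symm ▸ kline_stable x l (self_mem_kline x) :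
          (l : Matrix ι ι F) *ᵥ x ∈ lineImg K g⁻¹ y)
        rw [← hμ, hx, isom_form S (inv_mem hg), ev_apply, ← G.spec, hy, mul_zero, map_zero]
      rw [hC, ← mulVec_mulVec, ← mulVec_mulVec]
      have := hl g hg x hxiso ⟨k, hk⟩
      rwa [mulVec_inv_mulVec] at this
    obtain ⟨z, hz, hvz⟩ := exists_partner S G hv hv0
    have hzv : G.phi z v = 1 := by rw [phi_symm S G, hvz]
    -- on the two lines and the anisotropic vectors orthogonal to them
    have hiso : ∀ (y : ι → F) (μ : K), G.phi y y = 0 → G.phi (ev K y μ) (ev K y μ) = 0 :=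
      fun y μ hy => by rw [phi_ev_left S G, phi_ev S.hK (G.klin y), hy, mul_zero, mul_zero]
    have hsc : ∀ (y : ι → F), G.phi y y = 0 → ∀ μ, ∃ c, C *ᵥ ev K y μ = ev K y c := by
      intro y hy μ
      obtain ⟨c, hc⟩ := hCy _ (hiso y μ hy)
      exact ⟨c * μ, by rw [← hc, ev_apply _ c, ← ev_mul]⟩
    obtain ⟨k0, hk0⟩ := hsc v hv 1
    have main : ∀ w, G.phi v w = 0 → G.phi z w = 0 → G.phi w w ≠ 0 → ∀ s : K,
        C *ᵥ ev K v s = ev K v (s * k0) ∧ C *ᵥ ev K z s = ev K z (s * k0) ∧
          C *ᵥ ev K w s = ev K w (s * k0) := by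
      intro w hwv hwz hw
      have hwv' : G.phi w v = 0 := by rw [phi_symm S G, hwv]
      have hwz' : G.phi w z = 0 := by rw [phi_symm S G, hwz]
      let A : K → K := fun s => G.phi z (C *ᵥ ev K w s)
      let B : K → K := fun s => G.phi w (C *ᵥ ev K w s)
      let E' : K → K := fun s => G.phi v (C *ᵥ ev K w s)
      let c0 : K → K := fun μ => G.phi z (C *ᵥ ev K v μ)
      let cz : K → K := fun μ => G.phi v (C *ᵥ ev K z μ)
      have hc0 : ∀ μ, C *ᵥ ev K v μ = ev K v (c0 μ) := fun μ => by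
        obtain ⟨c, hc⟩ := hsc v hv μ
        simp only [c0, hc, phi_ev S.hK (G.klin z), hzv, mul_one]
      have hcz : ∀ μ, C *ᵥ ev K z μ = ev K z (cz μ) := fun μ => by
        obtain ⟨c, hc⟩ := hsc z hz μ
        simp only [cz, hc, phi_ev S.hK (G.klin v), hvz, mul_one]
      have hfam : ∀ t μ : K, ∃ c : K, A (μ * t) = c - c0 μ ∧ B (μ * t) = c * t * G.phi w w ∧
          E' (μ * t) = cz (μ * ((2 : K)⁻¹ * t * t * G.phi w w)) -
            c * ((2 : K)⁻¹ * t * t * G.phi w w) ∧
          C *ᵥ ev K w (μ * t) = ev K v (c - c0 μ) + ev K w (c * t) +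
            (ev K z (cz (μ * ((2 : K)⁻¹ * t * t * G.phi w w))) -
              ev K z (c * ((2 : K)⁻¹ * t * t * G.phi w w))) := by
        intro t μ
        set p := (2 : K)⁻¹ * t * t * G.phi w w with hp
        set x := v + ev K w t - ev K z p with hx
        have hxiso : G.phi x x = 0 := by
          simp only [hx, phi_sub S G, phi_add S G, map_sub, map_add, phi_ev_left S G,
            phi_ev S.hK (G.klin _), hv, hz, hvz, hzv, hwv, hwz, hwv', hwz', hp]
          have := twoK S
          field_simp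
          ring
        obtain ⟨c, hc⟩ := hsc x hxiso μ
        have hexp : ∀ m : K, ev K x m = ev K v m + ev K w (m * t) - ev K z (m * p) := fun m => by
          rw [ev_mul w m t, ev_mul z m p, ev_apply x, hx, mulVec_sub, mulVec_add]
          rfl
        rw [hexp μ, hexp c, mulVec_sub C, mulVec_add C, hc0, hcz] at hc
        refine ⟨c, ?_, ?_, ?_, ?_⟩
        · have h1 := congrArg (G.phi z) hc
          simp only [map_sub, map_add, phi_ev S.hK (G.klin z), hz, hzv, hwz, mul_zero, mul_one,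
            sub_zero, add_zero] at h1
          linear_combination h1
        · have h1 := congrArg (G.phi w) hc
          simp only [map_sub, map_add, phi_ev S.hK (G.klin w), hwv', hwz', mul_zero, sub_zero,
            zero_add] at h1
          linear_combination h1
        · have h1 := congrArg (G.phi v) hc
          simp only [map_sub, map_add, phi_ev S.hK (G.klin v), hv, hvz, hwv, mul_zero, mul_one,
            zero_add] at h1
          linear_combination h1
        · rw [map_sub]
          linear_combination (norm := module) hc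
      -- the family determines the multipliers
      have hadd : ∀ (ψ : (ι → F) →ₗ[F] K) (y : ι → F) (a b : K),
          ψ (C *ᵥ ev K y (a + b)) = ψ (C *ᵥ ev K y a) + ψ (C *ᵥ ev K y b) := fun ψ y a b => by
        rw [map_add, mulVec_add, map_add]
      have e0 : ∀ μ s : K, μ ≠ 0 → s ≠ 0 → c0 μ + A s = μ * (k0 + A s) := by
        intro μ s hμ hs
        obtain ⟨c, h1, h2, -, -⟩ := hfam (s * μ⁻¹) μ
        obtain ⟨c', h1', h2', -, -⟩ := hfam s 1
        rw [show μ * (s * μ⁻¹) = s by rw [mul_comm s, ← mul_assoc, mul_inv_cancel₀ hμ, one_mul]]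
          at h1 h2
        rw [one_mul] at h1' h2'
        have hk : c0 1 = k0 := by
          simp only [c0, hk0, phi_ev S.hK (G.klin z), hzv, mul_one]
        have hcc : c = μ * c' := by
          have h3 : c * (s * μ⁻¹) * G.phi w w = c' * s * G.phi w w := h2.symm.trans h2'
          field_simp at h3
          linear_combination h3
        rw [hcc] at h1
        rw [← hk]
        linear_combination h1 - μ * h1'
      have hA : ∀ s, A s = 0 := by
        intro s
        rcases eq_or_ne s 0 with rfl | hs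
        · simp only [A, map_zero, mulVec_zero]
        have h2 : (s : K) + s ≠ 0 := by
          rw [← two_mul]; exact mul_ne_zero (twoK S) hs
        -- compare `μ = 2` at `s` and at `2 s`
        have e1 := e0 2 s (twoK S) hs
        have e2 := e0 2 (s + s) (twoK S) h2
        have e3 : A (s + s) = A s + A s := hadd _ w s s
        rw [e3] at e2
        linear_combination e1 - e2
      have hc0' : ∀ μ, c0 μ = μ * k0 := by
        intro μ
        rcases eq_or_ne μ 0 with rfl | hμ
        · simp only [c0, map_zero, mulVec_zero, zero_mul]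
        have := e0 μ 1 hμ one_ne_zero
        rw [hA, add_zero, add_zero] at this
        exact this
      let D : K → K := fun y => cz y - y * k0
      have hD : ∀ μ s : K, μ ≠ 0 → D ((2 : K)⁻¹ * s * s * G.phi w w * μ⁻¹) = E' s := by
        intro μ s hμ
        obtain ⟨c, h1, -, h3, -⟩ := hfam (s * μ⁻¹) μ
        rw [show μ * (s * μ⁻¹) = s by rw [mul_comm s, ← mul_assoc, mul_inv_cancel₀ hμ, one_mul],
          hA, hc0'] at h1
        rw [show μ * (s * μ⁻¹) = s by rw [mul_comm s, ← mul_assoc, mul_inv_cancel₀ hμ, one_mul],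
          show μ * ((2 : K)⁻¹ * (s * μ⁻¹) * (s * μ⁻¹) * G.phi w w) =
            (2 : K)⁻¹ * s * s * G.phi w w * μ⁻¹ by field_simp, sub_eq_zero.mp h1.symm] at h3
        rw [h3]
        simp only [D]
        field_simp
      have hD0 : ∀ y, D y = 0 := by
        intro y
        rcases eq_or_ne y 0 with rfl | hy
        · simp only [D, cz, map_zero, mulVec_zero, zero_mul, sub_zero]
        have hq : (2 : K)⁻¹ * 1 * 1 * G.phi w w ≠ 0 := by
          simp only [mul_one]; exact mul_ne_zero (inv_ne_zero (twoK S)) hw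
        set q := (2 : K)⁻¹ * 1 * 1 * G.phi w w
        have e1 := hD (q * y⁻¹) 1 (mul_ne_zero hq (inv_ne_zero hy))
        have e2 := hD (q * (y + y)⁻¹) 1
          (mul_ne_zero hq (inv_ne_zero (by rw [← two_mul]; exact mul_ne_zero (twoK S) hy)))
        rw [show q * (q * y⁻¹)⁻¹ = y by field_simp] at e1
        rw [show q * (q * (y + y)⁻¹)⁻¹ = y + y by field_simp] at e2
        have e3 : D (y + y) = D y + D y := by
          simp only [D, cz, hadd]; ring
        rw [e3] at e2
        linear_combination e2 - e1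
      have hE : ∀ s, E' s = 0 := fun s => by rw [← hD 1 s one_ne_zero, hD0]
      intro s
      refine ⟨by rw [hc0, hc0'], by rw [hcz, sub_eq_zero.mp (hD0 s)], ?_⟩
      obtain ⟨c, h1, -, -, h4⟩ := hfam s 1
      rw [one_mul] at h1 h4
      rw [hA, hc0', one_mul] at h1
      rw [sub_eq_zero.mp h1.symm] at h4
      rw [h4, hc0', sub_eq_zero.mp (hD0 _), one_mul, one_mul, sub_self, map_zero, zero_add,
        mul_comm s k0, mul_comm _ k0]
      abel
    suffices hall : C = (k0 : Matrix ι ι F) from hall ▸ k0.2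
    refine Matrix.ext_of_mulVec_single fun i => ?_
    obtain ⟨x, h1, h2, -, hx⟩ := exists_proj S G hv hz hvz (Pi.single i 1)
    obtain ⟨a0, ha1, ha2, ha0⟩ := exists_aniso_perp S G hn hv hz hvz
    have hsum : ∀ y, G.phi v y = 0 → G.phi z y = 0 → G.phi y y ≠ 0 →
        C *ᵥ y = (k0 : Matrix ι ι F) *ᵥ y := fun y e1 e2 e3 => by
      have h4 := (main y e1 e2 e3 1).2.2
      rwa [ev_one, one_mul] at h4
    have hxC : C *ᵥ x = (k0 : Matrix ι ι F) *ᵥ x := by
      have h3 := hsum a0 ha1 ha2 ha0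
      by_cases hp : G.phi (x + a0) (x + a0) ≠ 0
      · have h4 := hsum _ (by rw [map_add, h1, ha1, add_zero]) (by rw [map_add, h2, ha2, add_zero]) hp
        rw [mulVec_add, mulVec_add, h3] at h4
        exact add_right_cancel h4
      · push Not at hp
        by_cases hm : G.phi (x + -a0) (x + -a0) ≠ 0
        · have h4 := hsum _ (by rw [map_add, map_neg, h1, ha1, neg_zero, add_zero])
            (by rw [map_add, map_neg, h2, ha2, neg_zero, add_zero]) hm
          rw [mulVec_add, mulVec_add, mulVec_neg, mulVec_neg, h3] at h4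
          exact add_right_cancel h4
        · push Not at hm
          by_cases hx0 : G.phi x x ≠ 0
          · exact hsum x h1 h2 hx0
          · push Not at hx0
            refine absurd ?_ (mul_ne_zero (twoK S) ha0)
            rw [norm_add S G, hx0, map_neg, phi_symm S G (-a0) (-a0), map_neg] at hm
            rw [norm_add S G, hx0] at hp
            have e : G.phi (-a0) a0 = -G.phi a0 a0 := by rw [phi_symm S G, map_neg]
            rw [e] at hm
            linear_combination hp + hm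
    have hline : ∀ μ : K, C *ᵥ ev K v μ = (k0 : Matrix ι ι F) *ᵥ ev K v μ ∧
        C *ᵥ ev K z μ = (k0 : Matrix ι ι F) *ᵥ ev K z μ := fun μ => by
      obtain ⟨e1, e2, -⟩ := main a0 ha1 ha2 ha0 μ
      exact ⟨by rw [e1, mul_comm μ, ev_mul], by rw [e2, mul_comm μ, ev_mul]⟩
    rw [hx, mulVec_add C, mulVec_add C, mulVec_add, mulVec_add, hxC, (hline _).1, (hline _).2]
  intro k
  refine ⟨key g hg k, fun hk => ?_⟩
  have := key g⁻¹ (inv_mem hg) _ hk
  rwa [inv_inv, ← mul_assoc, ← mul_assoc, ← Units.val_mul, inv_mul_cancel, Units.val_one,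
    one_mul, mul_assoc, ← Units.val_mul, inv_mul_cancel, Units.val_one, mul_one] at this

end Cfsg.Agent.ExtFieldMax.Orth
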